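import Cfsg.Agent.Lib.EightSylow.Endgame
import Cfsg.Agent.S0346
import Mathlib.GroupTheory.GroupAction.MultipleTransitivity

/-!
With S centralising W the group is a Zassenhaus group on the cosets of N(S), which is impossible.
-/

set_option autoImplicit false
set_option linter.style.haveILetI false
set_option linter.unusedSectionVars false

open scoped Pointwise

namespace Cfsg.Agent.EightSylow

variable {G : Type*} [Group G] [Finite G]

/-- The stabiliser of two points of the coset space. -/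
abbrev St (H : Subgroup G) (p q : G ⧸ H) : Subgroup G :=
  MulAction.stabilizer G p ⊓ MulAction.stabilizer G q

theorem mem_St {H : Subgroup G} {p q : G ⧸ H} {d : G} : d ∈ St H p q ↔ d • p = p ∧ d • q = q := Iff.rfl

theorem fix_one_iff {H : Subgroup G} {g : G} :
    g • (((1 : G)) : G ⧸ H) = ((1 : G) : G ⧸ H) ↔ g ∈ H := by
  rw [MulAction.Quotient.smul_mk, QuotientGroup.eq, smul_eq_mul, mul_one, mul_one, Subgroup.inv_mem_iff]

theorem mul_self_of_order {u : G} (hu : orderOf u = 2) : u * u = 1 := by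
  rw [← pow_two, ← hu, pow_orderOf_eq_one]

theorem swap_back {H : Subgroup G} {u : G} {p q : G ⧸ H} (hu : orderOf u = 2) (hup : u • p = q) : u • q = p := by
  rw [← hup, ← mul_smul, mul_self_of_order hu, one_smul]

theorem exists_smul_one {H : Subgroup G} (p : G ⧸ H) : ∃ g : G, g • p = ((1 : G) : G ⧸ H) := by
  induction p using QuotientGroup.induction_on with
  | _ x => exact ⟨x⁻¹, by rw [MulAction.Quotient.smul_mk, smul_eq_mul, inv_mul_cancel]⟩

theorem mem_St_conj {H : Subgroup G} {p q : G ⧸ H} {d g : G} :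
    g * d * g⁻¹ ∈ St H (g • p) (g • q) ↔ d ∈ St H p q := by
  simp only [mem_St, mul_smul, inv_smul_smul, smul_left_cancel_iff]

namespace Hyp

variable {S : Sylow 2 G} (h : Hyp S)
include h

theorem W_le_C {a : G} (ha : a ∈ (S : Subgroup G)) : W S ≤ C a := fun w hw => mem_C.2 (h.central w hw a ha).symm

theorem W_le_N : W S ≤ Subgroup.normalizer ((S : Subgroup G) : Set G) := fun w hw =>
  Subgroup.centralizer_le_normalizer _ (Subgroup.mem_centralizer_iff.2 fun s hs => h.central w hw s hs)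

theorem M_eq : M S = Subgroup.normalizer ((S : Subgroup G) : Set G) :=
  le_antisymm (sup_le h.W_le_N le_rfl) le_sup_right

theorem theta_eq {a : G} (ha : a ∈ (S : Subgroup G)) (ha1 : a ≠ 1) : theta a = W S := by
  rw [← h.W_inf_C ha ha1, inf_eq_left.2 (h.W_le_C ha)]

theorem C_eq {a : G} (ha : a ∈ (S : Subgroup G)) (ha1 : a ≠ 1) :
    C a = Subgroup.centralizer ((S : Subgroup G) : Set G) := by
  refine le_antisymm (fun g hg => ?_) (fun g hg => mem_C.2 (Subgroup.mem_centralizer_iff.1 hg a ha).symm)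
  obtain ⟨w, hw, s, hs, rfl⟩ := h.C_decomp ha ha1 hg
  rw [h.theta_eq ha ha1] at hw
  refine Subgroup.mem_centralizer_iff.2 fun t ht => ?_
  rw [← mul_assoc, h.central w hw t ht, mul_assoc, h.comm ht hs, mul_assoc]

theorem odd_mem_W {a : G} (ha : a ∈ (S : Subgroup G)) (ha1 : a ≠ 1) {g : G} (hg : g ∈ C a)
    (ho : Odd (orderOf g)) : g ∈ W S := h.theta_eq ha ha1 ▸ h.mem_theta ha ha1 hg ho

theorem card_C {a : G} (ha : a ∈ (S : Subgroup G)) (ha1 : a ≠ 1) : Nat.card (C a) = Nat.card (W S) * 8 := by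
  haveI : Fact (Nat.Prime 2) := ⟨Nat.prime_two⟩
  have hinf : W S ⊓ (S : Subgroup G) = ⊥ := eq_bot_iff.2 fun x hx =>
    Subgroup.mem_bot.2 (eq_one_of_odd_two h.W_odd S.isPGroup' hx.1 hx.2)
  rw [← h.card, ← SolvBasic.card_sup_of_inf_eq_bot h.S_le_NW hinf]
  congr 2
  refine le_antisymm (fun g hg => ?_) (sup_le (h.W_le_C ha) (h.S_le_C ha))
  obtain ⟨w, hw, s, hs, rfl⟩ := h.C_decomp ha ha1 hg
  exact mul_mem (Subgroup.mem_sup_left (h.theta_eq ha ha1 ▸ hw)) (Subgroup.mem_sup_right hs)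

theorem card_M : Nat.card (M S) = 7 * (Nat.card (W S) * 8) := by
  obtain ⟨a, ha, ha1, -⟩ := h.exists_three
  rw [h.M_eq, h.card_N, ← h.C_eq ha ha1, h.card_C ha ha1]

theorem invol_mem_S {t : G} (ht : t ∈ M S) (ho : orderOf t = 2) : t ∈ (S : Subgroup G) := by
  obtain ⟨w, hw, hs, -⟩ := h.invol_M ht ho
  have e : t = w⁻¹ * (w * t * w⁻¹) * w := by group
  have e2 : w⁻¹ * (w * t * w⁻¹) * w = w * t * w⁻¹ := by
    rw [mul_assoc, h.central w hw _ hs, inv_mul_cancel_left]
  rw [e, e2]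
  exact hs

theorem card_invol : Nat.card {t : G // orderOf t = 2 ∧ t ∈ M S} = 7 := by
  classical
  have h1 : Nat.card {x : (S : Subgroup G) // x ≠ 1} = 7 := by
    have := Nat.card_congr (Equiv.optionSubtypeNe (1 : (S : Subgroup G)))
    rw [Finite.card_option, h.card] at this
    omega
  rw [← h1]
  exact Nat.card_congr ⟨fun x => ⟨⟨x.1, h.invol_mem_S x.2.2 x.2.1⟩, fun e => by
      have := x.2.1
      rw [show x.1 = 1 from congrArg Subtype.val e, orderOf_one] at this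
      omega⟩,
    fun x => ⟨x.1.1, h.order2 x.1.2 (fun e => x.2 (Subtype.ext e)), h.S_le_M x.1.2⟩, fun _ => rfl, fun _ => rfl⟩

theorem C_W_le {y : G} (hy : y ∈ W S) (hy1 : y ≠ 1) : C y ≤ M S := by
  obtain ⟨a, ha, ha1, b, hb, hb1, hab⟩ := h.exists_three
  exact h.uniq4 (h.C_ne_top hy1) (mem_C.2 (h.central y hy a ha)) (mem_C.2 (h.central y hy b hb)) (h.S_le_M ha)
    (h.S_le_M hb) (h.order2 ha ha1) (h.order2 hb hb1) hab (h.comm ha hb)

theorem eq_one_of_inverted {a j : G} (ha : a ∈ (S : Subgroup G)) (hj : j ∈ M S) (ho : Odd (orderOf j))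
    (hinv : a * j * a = j⁻¹) : j = 1 := by
  haveI : Fact (Nat.Prime 2) := ⟨Nat.prime_two⟩
  rw [h.M_eq] at hj
  have h1 : j * a * j⁻¹ ∈ (S : Subgroup G) := (Subgroup.mem_normalizer_iff.1 hj a).1 ha
  have e : j * a * j⁻¹ = j * j * a := by
    calc j * a * j⁻¹ = j * a * (a * j * a) := by rw [hinv]
      _ = j * (a * a) * j * a := by group
      _ = _ := by rw [h.exp a ha, mul_one]
  rw [e] at h1
  have h2 : j * j ∈ (S : Subgroup G) := by simpa using mul_mem h1 (inv_mem ha)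
  obtain ⟨k, hk⟩ := IsPGroup.iff_orderOf.1 S.isPGroup' ⟨j * j, h2⟩
  rw [Subgroup.orderOf_mk, ← pow_two, Nat.Coprime.orderOf_pow (Nat.coprime_two_right.2 ho)] at hk
  rcases Nat.eq_zero_or_pos k with rfl | hk0
  · exact orderOf_eq_one_iff.1 (by rwa [pow_zero] at hk)
  · exact absurd (hk ▸ dvd_pow_self 2 hk0.ne') ho.not_two_dvd_nat

theorem odd_St {p q : G ⧸ M S} (hpq : p ≠ q) {d : G} (hd : d ∈ St (M S) p q) : Odd (orderOf d) := by
  haveI : Fact (Nat.Prime 2) := ⟨Nat.prime_two⟩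
  rw [← Nat.not_even_iff_odd]
  intro he
  obtain ⟨k, hk⟩ := he
  have hk0 : 0 < k := by have := orderOf_pos d; omega
  have ht : orderOf (d ^ k) = 2 := by
    rw [orderOf_pow_of_dvd (by omega) ⟨2, by omega⟩, hk]
    exact Nat.div_eq_of_eq_mul_left hk0 (by omega)
  have := (St (M S) p q).pow_mem hd k
  exact hpq (Invol.se_fix_unique h.M_se ht (mem_St.1 this).1 (mem_St.1 this).2)

theorem card_swap {p q : G ⧸ M S} (hpq : p ≠ q) :
    Nat.card (Invol.SwapInv p q) = 7 := (Invol.card_swapInv h.M_se hpq).trans h.card_invol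

theorem exists_swap {p q : G ⧸ M S} (hpq : p ≠ q) : ∃ u : G, orderOf u = 2 ∧ u • p = q ∧ u • q = p := by
  obtain ⟨⟨u, hu, hup⟩⟩ := (Nat.card_pos_iff.1 (by rw [h.card_swap hpq]; norm_num : 0 < Nat.card _)).1
  refine ⟨u, hu, hup, ?_⟩
  rw [← hup, ← mul_smul, ← pow_two, ← hu, pow_orderOf_eq_one, one_smul]

theorem conj_swap {p q : G ⧸ M S} {d u : G} (hd : d ∈ St (M S) p q) (hu : orderOf u = 2) (hup : u • p = q) :
    orderOf (d * u * d⁻¹) = 2 ∧ (d * u * d⁻¹) • p = q := by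
  refine ⟨by rw [Invol.order_conj, hu], ?_⟩
  rw [mul_smul, mul_smul, inv_smul_eq_iff.2 (mem_St.1 hd).1.symm, hup, (mem_St.1 hd).2]

/-- All swapping involutions are conjugate under the stabiliser. -/
theorem card_St_swap {p q : G ⧸ M S} (hpq : p ≠ q) {u : G} (hu : orderOf u = 2) (hup : u • p = q) :
    Nat.card (St (M S) p q) = 7 * Nat.card ↥(St (M S) p q ⊓ C u) := by
  rw [← card_conj (St (M S) p q) u, ← h.card_swap hpq]
  congr 1
  refine Nat.card_congr (Equiv.subtypeEquivRight fun w => ⟨?_, ?_⟩).symm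
  swap
  · rintro ⟨d, hd, rfl⟩
    exact h.conj_swap hd hu hup
  rintro ⟨hw, hwp⟩
  have huu : u * u = 1 := by rw [← pow_two, ← hu, pow_orderOf_eq_one]
  have hww : w * w = 1 := by rw [← pow_two, ← hw, pow_orderOf_eq_one]
  have huq : u • q = p := by rw [← hup, ← mul_smul, huu, one_smul]
  have hwq : w • q = p := by rw [← hwp, ← mul_smul, hww, one_smul]
  set j := w * u with hj
  have hjD : j ∈ St (M S) p q := ⟨show (w * u) • p = p by rw [mul_smul, hup, hwq],
    show (w * u) • q = q by rw [mul_smul, huq, hwp]⟩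
  obtain ⟨m, hm⟩ := h.odd_St hpq hjD
  set g := j ^ (m + 1) with hg
  have hgg : g * g = j := by
    rw [hg, ← pow_add, show m + 1 + (m + 1) = 2 * m + 1 + 1 by ring, ← hm, pow_succ, pow_orderOf_eq_one, one_mul]
  have hju : u * j * u⁻¹ = j⁻¹ := by
    rw [hj, mul_inv_rev, inv_eq_of_mul_eq_one_right hww, mul_assoc u, mul_assoc w, mul_inv_cancel, mul_one,
      inv_eq_of_mul_eq_one_right huu]
  have hgu : u * g * u⁻¹ = g⁻¹ := by rw [hg, ← conj_pow, hju, inv_pow]
  refine ⟨g, (St (M S) p q).pow_mem hjD _, ?_⟩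
  have : g⁻¹ = u * g * u⁻¹ := hgu.symm
  calc g * u * g⁻¹ = g * u * (u * g * u⁻¹) := by rw [this]
    _ = g * (u * u) * g * u⁻¹ := by group
    _ = w := by rw [huu, mul_one, hgg, hj, mul_inv_cancel_right]

/-- The stabiliser of the base point and a further point. -/
theorem card_St_base {z : G ⧸ M S} (hz : ((1 : G) : G ⧸ M S) ≠ z) :
    Nat.card (St (M S) ((1 : G) : G ⧸ M S) z) = 7 * Nat.card ↥(St (M S) ((1 : G) : G ⧸ M S) z ⊓ W S) ∧
    ∀ u : G, orderOf u = 2 → u • ((1 : G) : G ⧸ M S) = z →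
      Nat.card ↥(St (M S) ((1 : G) : G ⧸ M S) z ⊓ C u) ∣ 7 := by
  obtain ⟨a, ha, ha1, -⟩ := h.exists_three
  set x0 := ((1 : G) : G ⧸ M S) with hx0
  set D := St (M S) x0 z with hD
  have hDM : D ≤ M S := fun d hd => fix_one_iff.1 (mem_St.1 hd).1
  have hDW : D ⊓ C a = D ⊓ W S := le_antisymm
    (fun d hd => ⟨hd.1, h.odd_mem_W ha ha1 hd.2 (h.odd_St hz hd.1)⟩)
    (inf_le_inf_left _ (h.W_le_C ha))
  have hconj : Nat.card {x : G // ∃ d ∈ D, d * a * d⁻¹ = x} = 7 := by
    rw [← h.card_invol]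
    refine Nat.card_congr (Equiv.subtypeEquivRight fun t => ⟨?_, ?_⟩)
    · rintro ⟨d, hd, rfl⟩
      exact ⟨by rw [Invol.order_conj, h.order2 ha ha1], mul_mem (mul_mem (hDM hd) (h.S_le_M ha)) (inv_mem (hDM hd))⟩
    · rintro ⟨ht, htM⟩
      obtain ⟨u, hu, hup, huq⟩ := h.exists_swap hz
      have huu : u * u = 1 := by rw [← pow_two, ← hu, pow_orderOf_eq_one]
      have hsz : (u * t * u⁻¹) • z = z := by
        rw [mul_smul, mul_smul, inv_smul_eq_iff.2 hup.symm, fix_one_iff.2 htM, hup]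
      obtain ⟨⟨w, hwo, hwx⟩, hw⟩ := (Invol.swap_conj_bijective h.M_se hz
        ⟨a, h.order2 ha ha1, fix_one_iff.2 (h.S_le_M ha)⟩).2 ⟨u * t * u⁻¹, by rw [Invol.order_conj, ht], hsz⟩
      have hw' : w * a * w⁻¹ = u * t * u⁻¹ := congrArg Subtype.val hw
      have hwz : w • z = x0 := by rw [← hwx, ← mul_smul, ← pow_two, ← hwo, pow_orderOf_eq_one, one_smul]
      refine ⟨u⁻¹ * w, ⟨?_, ?_⟩, ?_⟩
      · show (u⁻¹ * w) • x0 = x0
        rw [mul_smul, hwx]; exact inv_smul_eq_iff.2 hup.symm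
      · show (u⁻¹ * w) • z = z
        rw [mul_smul, hwz]; exact inv_smul_eq_iff.2 huq.symm
      · calc u⁻¹ * w * a * (u⁻¹ * w)⁻¹ = u⁻¹ * (w * a * w⁻¹) * u := by group
          _ = t := by rw [hw']; group
  have hcard : Nat.card D = 7 * Nat.card ↥(D ⊓ W S) := by rw [← card_conj D a, hconj, hDW]
  refine ⟨hcard, fun u hu hup => ?_⟩
  have hY := h.card_St_swap hz hu hup
  rw [← hD] at hY
  set c := Nat.card ↥(D ⊓ W S) with hc
  have hYc : Nat.card ↥(D ⊓ C u) = c := by omega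
  have hinf : (D ⊓ W S) ⊓ (D ⊓ C u) = ⊥ := eq_bot_iff.2 fun y hy => Subgroup.mem_bot.2 <| by
    by_contra hy1
    have huM : u ∈ M S := h.C_W_le hy.1.2 hy1 (mem_C.2 (mem_C.1 hy.2.2).symm)
    exact hz ((fix_one_iff.2 huM).symm.trans hup)
  have hn : D ⊓ C u ≤ Subgroup.normalizer ((D ⊓ W S : Subgroup G) : Set G) :=
    (inf_le_left.trans (le_inf Subgroup.le_normalizer (hDM.trans h.M_le_NW))).trans
      Subgroup.inf_normalizer_le_normalizer_inf
  have h2 := Subgroup.card_dvd_of_le (sup_le (inf_le_left : D ⊓ W S ≤ D) (inf_le_left : D ⊓ C u ≤ D))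
  rw [SolvBasic.card_sup_of_inf_eq_bot hn hinf, hYc, ← hc, hcard, mul_comm 7] at h2
  rw [hYc]
  exact Nat.dvd_of_mul_dvd_mul_left Nat.card_pos h2

theorem card_St_dvd {p q : G ⧸ M S} (hpq : p ≠ q) {u : G} (hu : orderOf u = 2) (hup : u • p = q) :
    Nat.card ↥(St (M S) p q ⊓ C u) ∣ 7 := by
  obtain ⟨g, hg⟩ := exists_smul_one p
  have hne : ((1 : G) : G ⧸ M S) ≠ g • q := fun e => hpq (smul_left_cancel g (hg.trans e))
  have := (h.card_St_base hne).2 (g * u * g⁻¹) (by rw [Invol.order_conj, hu]) (by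
    rw [mul_smul, mul_smul, inv_smul_eq_iff.2 hg.symm, hup])
  refine dvd_trans (dvd_of_eq (Nat.card_congr ?_)) this
  refine Equiv.subtypeEquiv (MulAut.conj g).toEquiv fun d => ?_
  simp only [MulEquiv.toEquiv_eq_coe, EquivLike.coe_coe, MulAut.conj_apply, Subgroup.mem_inf]
  rw [← hg]
  refine and_congr mem_St_conj.symm ⟨fun hd => ?_, fun hd => ?_⟩
  · rw [mem_C] at hd ⊢
    calc g * d * g⁻¹ * (g * u * g⁻¹) = g * (d * u) * g⁻¹ := by group
      _ = _ := by rw [hd]; group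
  · rw [mem_C] at hd ⊢
    calc d * u = g⁻¹ * (g * d * g⁻¹ * (g * u * g⁻¹)) * g := by group
      _ = _ := by rw [hd]; group

theorem St_base_inf_W {z : G ⧸ M S} (hz : ((1 : G) : G ⧸ M S) ≠ z) :
    St (M S) ((1 : G) : G ⧸ M S) z ⊓ W S = ⊥ := by
  obtain ⟨a, ha, ha1, -⟩ := h.exists_three
  set x0 := ((1 : G) : G ⧸ M S) with hx0
  refine eq_bot_iff.2 fun y hy => Subgroup.mem_bot.2 ?_
  by_contra hy1
  have hao := h.order2 ha ha1
  have haz : z ≠ a • z := fun e => hz (Invol.se_fix_unique h.M_se hao (fix_one_iff.2 (h.S_le_M ha)) e.symm)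
  set D1 := St (M S) z (a • z) with hD1
  have hyD1 : y ∈ D1 := by
    refine ⟨(mem_St.1 hy.1).2, ?_⟩
    show y • (a • z) = a • z
    rw [← mul_smul, ← h.central y hy.2 a ha, mul_smul, (mem_St.1 hy.1).2]
  have hyC : y ∈ D1 ⊓ C a := ⟨hyD1, mem_C.2 (h.central y hy.2 a ha).symm⟩
  have h7 : Nat.card ↥(D1 ⊓ C a) = 7 := by
    refine ((Nat.dvd_prime (by norm_num)).1 (h.card_St_dvd haz hao rfl)).resolve_left fun e => hy1 ?_
    rw [Subgroup.card_eq_one] at e
    exact Subgroup.mem_bot.1 (e ▸ hyC)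
  haveI : Fact (Nat.Prime 7) := ⟨by norm_num⟩
  have h49 : Nat.card D1 = 7 ^ 2 := by rw [h.card_St_swap haz hao rfl, ← hD1, h7]; norm_num
  have hcomm := IsPGroup.commutative_of_card_eq_prime_sq h49
  -- elements inverted by a
  have hall : ∀ w : Invol.SwapInv z (a • z), w.1 = a := by
    intro w
    have haa := h.exp a ha
    have hww : w.1 * w.1 = 1 := mul_self_of_order w.2.1
    have hwz : w.1 • (a • z) = z := swap_back w.2.1 w.2.2
    have haz' : a • (a • z) = z := by rw [← mul_smul, haa, one_smul]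
    have hj : a * w.1 ∈ D1 := ⟨show (a * w.1) • z = z by rw [mul_smul, w.2.2, haz'],
      show (a * w.1) • (a • z) = a • z by rw [mul_smul, hwz]⟩
    have hjy : a * w.1 ∈ C y := mem_C.2 (congrArg Subtype.val (hcomm ⟨_, hj⟩ ⟨y, hyD1⟩))
    have hj1 := h.eq_one_of_inverted ha (h.C_W_le hy.2 hy1 hjy) (h.odd_St haz hj) (by
      rw [mul_inv_rev, inv_eq_of_mul_eq_one_right hww, h.inv_eq ha, ← mul_assoc, haa, one_mul])
    rw [mul_eq_one_iff_eq_inv'.1 hj1, h.inv_eq ha]
  have : Subsingleton (Invol.SwapInv z (a • z)) := ⟨fun v w => Subtype.ext ((hall v).trans (hall w).symm)⟩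
  have := Finite.card_le_one_iff_subsingleton.2 this
  rw [h.card_swap haz] at this
  omega

theorem card_St {p q : G ⧸ M S} (hpq : p ≠ q) : Nat.card (St (M S) p q) = 7 := by
  obtain ⟨g, hg⟩ := exists_smul_one p
  have hne : ((1 : G) : G ⧸ M S) ≠ g • q := fun e => hpq (smul_left_cancel g (hg.trans e))
  have hb := (h.card_St_base hne).1
  rw [h.St_base_inf_W hne, Subgroup.card_bot, mul_one] at hb
  rw [← hb, ← hg]
  exact Nat.card_congr (Equiv.subtypeEquiv (MulAut.conj g).toEquiv fun d => by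
    simp only [MulEquiv.toEquiv_eq_coe, EquivLike.coe_coe, MulAut.conj_apply]
    exact mem_St_conj.symm)

theorem inverts {p q : G ⧸ M S} (hpq : p ≠ q) {u : G} (hu : orderOf u = 2) (hup : u • p = q) {d : G}
    (hd : d ∈ St (M S) p q) : u * d * u⁻¹ = d⁻¹ := by
  have huu : u * u = 1 := by rw [← pow_two, ← hu, pow_orderOf_eq_one]
  have huq : u • q = p := by rw [← hup, ← mul_smul, huu, one_smul]
  let f : Invol.SwapInv p q → St (M S) p q := fun w => ⟨u * w.1, by
    have hww : w.1 * w.1 = 1 := mul_self_of_order w.2.1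
    have hwq : w.1 • q = p := swap_back w.2.1 w.2.2
    exact ⟨show (u * w.1) • p = p by rw [mul_smul, w.2.2, huq],
      show (u * w.1) • q = q by rw [mul_smul, hwq, hup]⟩⟩
  have hf : Function.Bijective f := (Nat.bijective_iff_injective_and_card f).2
    ⟨fun v w e => Subtype.ext (mul_left_cancel (congrArg Subtype.val e)), by rw [h.card_swap hpq, h.card_St hpq]⟩
  obtain ⟨w, hw⟩ := hf.2 ⟨d, hd⟩
  have hd' : d = u * w.1 := (congrArg Subtype.val hw).symm
  have hww : w.1 * w.1 = 1 := mul_self_of_order w.2.1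
  rw [hd', mul_inv_rev, inv_eq_of_mul_eq_one_right hww, inv_eq_of_mul_eq_one_right huu, ← mul_assoc, huu, one_mul]

/-- Commuting action on the seven involutions. -/
theorem comm_action {k d : G} (hk : k ∈ M S) (hd : d ∈ M S) {a : G} (ha : a ∈ (S : Subgroup G)) (ha1 : a ≠ 1) :
    (k * d * k⁻¹ * d⁻¹) ∈ C a := by
  set N := Subgroup.normalizer ((S : Subgroup G) : Set G) with hN
  set Z := Subgroup.centralizer ((S : Subgroup G) : Set G) with hZ
  haveI : (Z.subgroupOf N).Normal := by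
    refine ⟨fun n hn g => ?_⟩
    rw [Subgroup.mem_subgroupOf, hZ, Subgroup.mem_centralizer_iff] at hn ⊢
    intro s hs
    have hs' : (g : G)⁻¹ * s * g ∈ (S : Subgroup G) := (Subgroup.mem_normalizer_iff''.1 g.2 s).1 hs
    have := hn _ hs'
    simp only [Subgroup.coe_mul, Subgroup.coe_inv]
    calc s * ((g : G) * (n : G) * (g : G)⁻¹) = g * (((g : G)⁻¹ * s * g) * n) * (g : G)⁻¹ := by group
      _ = _ := by rw [this]; group
  haveI : Fact (Nat.Prime 7) := ⟨by norm_num⟩
  have hidx : Nat.card (N ⧸ Z.subgroupOf N) = 7 := by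
    have h1 := Subgroup.card_mul_index (Z.subgroupOf N)
    rw [Nat.card_congr (Subgroup.subgroupOfEquivOfLe (Subgroup.centralizer_le_normalizer _ : Z ≤ N)).toEquiv, hN,
      h.card_N, mul_comm 7] at h1
    exact Nat.eq_of_mul_eq_mul_left Nat.card_pos h1
  haveI hcyc := isCyclic_of_prime_card hidx
  letI := IsCyclic.commGroup (α := N ⧸ Z.subgroupOf N)
  rw [h.M_eq] at hk hd
  rw [h.C_eq ha ha1]
  set K : N := ⟨k, hk⟩ with hK
  set D : N := ⟨d, hd⟩ with hD
  set f := QuotientGroup.mk' (Z.subgroupOf N) with hf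
  have hc : f K * f D = f D * f K := mul_comm _ _
  have h1 : K * D * K⁻¹ * D⁻¹ ∈ Z.subgroupOf N := by
    refine (QuotientGroup.eq_one_iff _).1 ?_
    show f (K * D * K⁻¹ * D⁻¹) = 1
    simp only [map_mul, map_inv]
    rw [hc, mul_inv_cancel_right, mul_inv_cancel]
  exact Subgroup.mem_subgroupOf.1 h1

theorem fix_only {z r : G ⧸ M S} (hz : ((1 : G) : G ⧸ M S) ≠ z)
    (hr : ∀ d ∈ St (M S) ((1 : G) : G ⧸ M S) z, d • r = r) : r = ((1 : G) : G ⧸ M S) ∨ r = z := by
  set x0 := ((1 : G) : G ⧸ M S) with hx0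
  by_contra hcon
  push_neg at hcon
  obtain ⟨hr0, hrz⟩ := hcon
  set D := St (M S) x0 z with hD
  have hzr : St (M S) z r = D := (Subgroup.eq_of_le_of_card_ge
    (fun d hd => show d ∈ St (M S) z r from ⟨(mem_St.1 hd).2, hr d hd⟩)
    (by rw [h.card_St hz, h.card_St hrz.symm])).symm
  have hr0' : St (M S) r x0 = D := (Subgroup.eq_of_le_of_card_ge
    (fun d hd => show d ∈ St (M S) r x0 from ⟨hr d hd, (mem_St.1 hd).1⟩)
    (by rw [h.card_St hz, h.card_St hr0])).symm
  obtain ⟨u, hu, hu1, -⟩ := h.exists_swap hz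
  obtain ⟨v, hv, hv1, -⟩ := h.exists_swap hrz.symm
  obtain ⟨w, hw, hw1, -⟩ := h.exists_swap hr0
  set k := w * v * u with hk
  have hkM : k ∈ M S := fix_one_iff.1 (by rw [hk, mul_smul, mul_smul, hu1, hv1, hw1])
  obtain ⟨a, ha, ha1, -⟩ := h.exists_three
  obtain ⟨d, hd, hd1⟩ : ∃ d ∈ D, d ≠ 1 := by
    have : Nontrivial D := Finite.one_lt_card_iff_nontrivial.1 (by rw [hD, h.card_St hz]; norm_num)
    obtain ⟨d, hd⟩ := exists_ne (1 : D)
    exact ⟨d, d.2, fun e => hd (Subtype.ext e)⟩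
  have hdM : d ∈ M S := fix_one_iff.1 (mem_St.1 hd).1
  have e1 := h.inverts hz hu hu1 hd
  have e2 := h.inverts hrz.symm hv hv1 (hzr.ge (D.inv_mem hd))
  have e3 := h.inverts hr0 hw hw1 (hr0'.ge hd)
  rw [inv_inv] at e2
  have e4 : k * d * k⁻¹ = d⁻¹ := by
    calc k * d * k⁻¹ = w * (v * (u * d * u⁻¹) * v⁻¹) * w⁻¹ := by rw [hk]; group
      _ = _ := by rw [e1, e2, e3]
  have h1 := h.comm_action hkM hdM ha ha1
  rw [e4] at h1
  have hdd : d⁻¹ * d⁻¹ ∈ D := D.mul_mem (D.inv_mem hd) (D.inv_mem hd)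
  have h2 : d⁻¹ * d⁻¹ ∈ W S := h.odd_mem_W ha ha1 h1 (h.odd_St hz hdd)
  have h3 : d⁻¹ * d⁻¹ = 1 := Subgroup.mem_bot.1 ((h.St_base_inf_W hz).le ⟨hdd, h2⟩)
  obtain ⟨m, hm⟩ := h.odd_St hz hd
  refine hd1 ?_
  have hsq : d ^ 2 = 1 := by rw [pow_two]; exact inv_eq_one.1 (by rw [mul_inv_rev]; exact h3)
  clear e1 e2 e3 e4
  have hdv := orderOf_dvd_of_pow_eq_one hsq
  have : m = 0 := by have := Nat.le_of_dvd two_pos hdv; omega
  exact orderOf_eq_one_iff.1 (by omega)

/-- No such group exists. -/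
theorem false : False := by
  haveI : Fact (Nat.Prime 7) := ⟨by norm_num⟩
  haveI := h.simple
  classical
  obtain ⟨a, ha, ha1, -⟩ := h.exists_three
  set x0 := ((1 : G) : G ⧸ M S) with hx0
  obtain ⟨z, hz⟩ : ∃ z : G ⧸ M S, x0 ≠ z := by
    obtain ⟨g, -, hg⟩ := SetLike.exists_of_lt (lt_top_iff_ne_top.2 h.M_ne_top)
    exact ⟨(g : G ⧸ M S), fun e => hg (by simpa [hx0] using QuotientGroup.eq.1 e)⟩
  have hStM : ∀ r, St (M S) x0 r ≤ M S := fun r d hd => fix_one_iff.1 (mem_St.1 hd).1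
  have h7W : ¬ 7 ∣ Nat.card (W S) := by
    intro hd
    set D := St (M S) x0 z with hD
    obtain ⟨P, hP⟩ := ((IsPGroup.of_card (n := 1) (by rw [h.card_St hz, pow_one]) : IsPGroup 7 D).comap_of_injective
      (M S).subtype (M S).subtype_injective).exists_le_sylow
    set WM := (W S).subgroupOf (M S) with hWM
    haveI : WM.Normal := (Subgroup.normal_subgroupOf_iff_le_normalizer le_sup_left).2 h.M_le_NW
    have hdW : 7 ∣ Nat.card WM := by
      exact (Nat.card_congr (Subgroup.subgroupOfEquivOfLe (le_sup_left : W S ≤ M S)).toEquiv).symm ▸ hd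
    obtain ⟨y, hy⟩ := exists_prime_orderOf_dvd_card' 7 hdW
    obtain ⟨Q, hQ⟩ := (IsPGroup.of_card (n := 1) (by rw [Nat.card_zpowers, Subgroup.orderOf_coe, hy, pow_one]) :
      IsPGroup 7 (Subgroup.zpowers (y : M S))).exists_le_sylow
    obtain ⟨g, hg⟩ := MulAction.exists_smul_eq (M S) Q P
    have hy' : g * (y : M S) * g⁻¹ ∈ (P : Subgroup (M S)) := by
      rw [← hg]
      exact Subgroup.smul_mem_pointwise_smul _ (MulAut.conj g) _ (hQ (Subgroup.mem_zpowers _))
    haveI : Group.IsNilpotent (P : Subgroup (M S)) := P.isPGroup'.isNilpotent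
    set NP := WM.subgroupOf (P : Subgroup (M S)) with hNP
    have hne : NP ≠ ⊥ := fun e => by
      have h1 : (⟨_, hy'⟩ : (P : Subgroup (M S))) ∈ NP := ‹WM.Normal›.conj_mem _ y.2 g
      rw [e, Subgroup.mem_bot] at h1
      have h2 : (y : M S) = 1 := conj_eq_one_iff.1 (congrArg Subtype.val h1)
      rw [← Subgroup.orderOf_coe, h2, orderOf_one] at hy
      omega
    obtain ⟨c, hc⟩ := Subgroup.ne_bot_iff_exists_ne_one.1 (SolvStruct.inf_center_ne_bot hne)
    have hc2 := (Subgroup.mem_inf.1 c.2).2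
    set cg : G := (((c : (P : Subgroup (M S))) : M S) : G) with hcg
    have hcW : cg ∈ W S := (Subgroup.mem_inf.1 c.2).1
    have hcne : cg ≠ 1 := fun e => hc (Subtype.ext (Subtype.ext (Subtype.ext e)))
    have hcD : ∀ d ∈ D, d * cg = cg * d := by
      intro d hd
      exact congrArg (fun x : (P : Subgroup (M S)) => ((x : M S) : G))
        (Subgroup.mem_center_iff.1 hc2 ⟨⟨d, hStM z hd⟩, hP hd⟩)
    -- c moves z to a point fixed by D
    have hfix : ∀ d ∈ D, d • (cg • z) = cg • z := fun d hd => by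
      rw [← mul_smul, hcD d hd, mul_smul, (mem_St.1 hd).2]
    have hcx : cg • x0 = x0 := fix_one_iff.2 (Subgroup.mem_sup_left hcW)
    rcases h.fix_only hz hfix with e | e
    · exact hz (smul_left_cancel cg (hcx.trans e.symm))
    · exact hcne (Subgroup.mem_bot.1 ((h.St_base_inf_W hz).le ⟨⟨hcx, e⟩, hcW⟩))
  have hMtrans : ∀ r, x0 ≠ r → ∃ m ∈ M S, m • z = r := by
    intro r hr
    have mk : ∀ {r}, x0 ≠ r → ∃ P : Sylow 7 (M S), (P : Subgroup (M S)) = (St (M S) x0 r).subgroupOf (M S) := by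
      intro r hr
      obtain ⟨P, hP⟩ := ((IsPGroup.of_card (n := 1) (by rw [h.card_St hr, pow_one]) : IsPGroup 7 (St (M S) x0 r)).comap_of_injective
        (M S).subtype (M S).subtype_injective).exists_le_sylow
      refine ⟨P, (Subgroup.eq_of_le_of_card_ge hP ?_).symm⟩
      show Nat.card (P : Subgroup (M S)) ≤ Nat.card ((St (M S) x0 r).subgroupOf (M S))
      rw [Nat.card_congr (Subgroup.subgroupOfEquivOfLe (hStM r)).toEquiv, h.card_St hr, Sylow.card_eq_multiplicity,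
        h.card_M, Nat.factorization_mul (by norm_num) (Nat.mul_ne_zero Nat.card_pos.ne' (by norm_num))]
      simp only [Finsupp.coe_add, Pi.add_apply]
      rw [Nat.Prime.factorization_self (by norm_num : Nat.Prime 7), Nat.factorization_eq_zero_of_not_dvd]
      · norm_num
      · intro hd
        rcases (Nat.Prime.dvd_mul (by norm_num)).1 hd with hd | hd
        · exact h7W hd
        · norm_num at hd
    obtain ⟨P, hP⟩ := mk hz
    obtain ⟨Q, hQ⟩ := mk hr
    obtain ⟨m, hm⟩ := MulAction.exists_smul_eq (M S) P Q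
    refine ⟨m, m.2, ?_⟩
    have hmx : (m : G) • x0 = x0 := fix_one_iff.2 m.2
    have hfix : ∀ d ∈ St (M S) x0 r, d • ((m : G) • z) = (m : G) • z := by
      intro d hd
      have h1 : (⟨d, hStM r hd⟩ : M S) ∈ (Q : Subgroup (M S)) := by
        rw [hQ, Subgroup.mem_subgroupOf]
        exact hd
      rw [← hm, Sylow.smul_def, Sylow.pointwise_smul_def, Subgroup.mem_pointwise_smul_iff_inv_smul_mem, hP,
        Subgroup.mem_subgroupOf] at h1
      have h2 : (m : G)⁻¹ * d * (m : G) ∈ St (M S) x0 z := by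
        simpa [← map_inv, MulAut.smul_def] using h1
      have h3 := (mem_St.1 h2).2
      rw [mul_smul, mul_smul, inv_smul_eq_iff] at h3
      exact h3
    rcases h.fix_only hr hfix with e | e
    · exact absurd (smul_left_cancel (m : G) (hmx.trans e.symm)) hz
    · exact e
  haveI : MulAction.IsPretransitive G (G ⧸ M S) := inferInstance
  have htwo : MulAction.IsMultiplyPretransitive G (G ⧸ M S) 2 := by
    rw [MulAction.is_two_pretransitive_iff]
    intro p q r t hpq hrt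
    obtain ⟨g1, hg1⟩ := exists_smul_one p
    obtain ⟨g2, hg2⟩ := exists_smul_one r
    obtain ⟨m1, hm1, hm1z⟩ := hMtrans (g1 • q) (fun e => hpq (smul_left_cancel g1 (hg1.trans e)))
    obtain ⟨m2, hm2, hm2z⟩ := hMtrans (g2 • t) (fun e => hrt (smul_left_cancel g2 (hg2.trans e)))
    refine ⟨g2⁻¹ * (m2 * m1⁻¹ * g1), ?_, ?_⟩
    · rw [mul_smul, mul_smul, hg1, fix_one_iff.2 (mul_mem hm2 (inv_mem hm1))]
      exact inv_smul_eq_iff.2 hg2.symm
    · rw [mul_smul, mul_smul, mul_smul, ← hm1z, inv_smul_smul, hm2z, inv_smul_smul]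
  have hker : ∀ g : G, (∀ p : G ⧸ M S, g • p = p) → g = 1 := by
    intro g hg
    have h1 : g ∈ (M S).normalCore := fun b => by
      have := hg ((b⁻¹ : G) : G ⧸ M S)
      rw [MulAction.Quotient.smul_mk, QuotientGroup.eq, smul_eq_mul] at this
      simpa [mul_assoc] using inv_mem this
    rcases (Subgroup.normalCore_normal (M S)).eq_bot_or_eq_top with e | e
    · exact Subgroup.mem_bot.1 (e ▸ h1)
    · exact absurd (top_le_iff.1 (e.ge.trans (Subgroup.normalCore_le _))) h.M_ne_top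
  have hZ : Cfsg.IsZassenhausGroup G (G ⧸ M S) := by
    refine ⟨⟨fun {g1 g2} e => ?_⟩, htwo, ?_, ?_, ?_⟩
    · exact (inv_mul_eq_one.1 (hker (g1⁻¹ * g2) fun p => by rw [mul_smul, ← e p, inv_smul_smul]))
    · intro g p q r hpq hqr hpr hp hq hr
      by_contra hg1
      obtain ⟨k, hk⟩ := exists_smul_one p
      have hkne : x0 ≠ k • q := fun e => hpq (smul_left_cancel k (hk.trans e))
      have hg' : k * g * k⁻¹ ∈ St (M S) x0 (k • q) := by
        rw [hx0, ← hk]; exact mem_St_conj.2 ⟨hp, hq⟩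
      have hfix : ∀ d ∈ St (M S) x0 (k • q), d • (k • r) = k • r := by
        intro d hd
        have hgen : Subgroup.zpowers (⟨_, hg'⟩ : St (M S) x0 (k • q)) = ⊤ :=
          zpowers_eq_top_of_prime_card (h.card_St hkne) (fun e => hg1 (conj_eq_one_iff.1 (congrArg Subtype.val e)))
        obtain ⟨i, hi⟩ := Subgroup.mem_zpowers_iff.1 (hgen.ge (Subgroup.mem_top (⟨d, hd⟩ : St (M S) x0 (k • q))))
        have hd' : d = (k * g * k⁻¹) ^ i := by simpa using (congrArg Subtype.val hi).symm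
        have hgr : k * g * k⁻¹ ∈ MulAction.stabilizer G (k • r) := by
          show (k * g * k⁻¹) • (k • r) = k • r
          rw [← mul_smul, inv_mul_cancel_right, mul_smul, hr]
        exact hd' ▸ (zpow_mem hgr i : (k * g * k⁻¹) ^ i ∈ MulAction.stabilizer G (k • r))
      rcases h.fix_only hkne hfix with e | e
      · exact hpr (smul_left_cancel k (hk.trans e.symm))
      · exact hqr (smul_left_cancel k e.symm)
    · have : Nontrivial (St (M S) x0 z) := Finite.one_lt_card_iff_nontrivial.1 (by rw [h.card_St hz]; norm_num)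
      obtain ⟨d, hd⟩ := exists_ne (1 : St (M S) x0 z)
      exact ⟨d, fun e => hd (Subtype.ext e), x0, z, hz, (mem_St.1 d.2).1, (mem_St.1 d.2).2⟩
    · intro N hN hNt
      refine ⟨x0, ?_⟩
      rcases hN.eq_bot_or_eq_top with rfl | rfl
      · exfalso
        obtain ⟨n, hn⟩ := hNt.exists_smul_eq x0 z
        obtain rfl : n = 1 := Subtype.ext (Subgroup.mem_bot.1 n.2)
        exact hz ((one_smul (⊥ : Subgroup G) x0).symm.trans hn)
      · intro e
        have h1 : (⟨a, Subgroup.mem_top a⟩ : (⊤ : Subgroup G)) ∈ MulAction.stabilizer (⊤ : Subgroup G) x0 :=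
          fix_one_iff.2 (h.S_le_M ha)
        replace h1 := e.le h1
        rw [Subgroup.mem_bot] at h1
        exact ha1 (congrArg Subtype.val h1)
  letI : Fintype (G ⧸ M S) := Fintype.ofFinite _
  have hpp := S0346.result hZ
  -- the degree
  have hst : (MulAction.stabilizer (M S) z) = (St (M S) x0 z).subgroupOf (M S) := by
    ext m
    rw [MulAction.mem_stabilizer_iff, Subgroup.mem_subgroupOf, mem_St]
    exact ⟨fun e => ⟨fix_one_iff.2 m.2, e⟩, fun e => e.2⟩
  have horb : MulAction.orbit (M S) z = {x0}ᶜ := by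
    ext r
    constructor
    · rintro ⟨m, rfl⟩ e
      exact hz (smul_left_cancel (m : G) ((fix_one_iff.2 m.2).trans (Set.mem_singleton_iff.1 e).symm))
    · intro hr
      obtain ⟨m, hm, e⟩ := hMtrans r (fun e => hr e.symm)
      exact ⟨⟨m, hm⟩, e⟩
  have hk : Fintype.card (G ⧸ M S) - 1 = 8 * Nat.card (W S) := by
    have h1 := MulAction.index_stabilizer (M S) z
    rw [hst, horb, Set.ncard_compl, Set.ncard_singleton, Nat.card_eq_fintype_card] at h1
    have h2 := Subgroup.card_mul_index ((St (M S) x0 z).subgroupOf (M S))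
    rw [Nat.card_congr (Subgroup.subgroupOfEquivOfLe (hStM z)).toEquiv, h.card_St hz, h.card_M, h1] at h2
    omega
  rw [hk] at hpp
  obtain ⟨p, n, hp, hn, hpn⟩ := hpp
  have hp2 : p = 2 := ((Nat.prime_dvd_prime_iff_eq Nat.prime_two hp.nat_prime).1
    (Nat.prime_two.dvd_of_dvd_pow (hpn ▸ Dvd.intro _ (show 2 * (4 * Nat.card (W S)) = _ by ring) : 2 ∣ p ^ n))).symm
  subst hp2
  have hW1 : Nat.card (W S) = 1 := by
    obtain ⟨m, -, hm⟩ := (Nat.dvd_prime_pow Nat.prime_two).1 (hpn ▸ Dvd.intro_left 8 rfl : Nat.card (W S) ∣ 2 ^ n)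
    rcases Nat.eq_zero_or_pos m with rfl | hm0
    · simpa using hm
    · exact absurd (hm ▸ dvd_pow_self 2 hm0.ne') h.W_odd
  have hidx : (M S).index = 9 := by
    rw [Subgroup.index, Nat.card_eq_fintype_card]
    have := Fintype.card_pos (α := G ⧸ M S)
    rw [hW1] at hk
    omega
  exact h.nine (hidx ▸ Subgroup.index_dvd_card (M S))

end Hyp

end Cfsg.Agent.EightSylow
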