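import Cfsg.Agent.Lib.EightSylow.Setup

/-!
When the Sylow group S moves W: an M-invariant q-subgroup X of exponent q, with commutators fixed by S, moved by S;
joint eigenvectors of S in X.
-/

set_option autoImplicit false
set_option linter.style.haveILetI false
set_option linter.unusedSectionVars false

open scoped commutatorElement

namespace Cfsg.Agent.EightSylow

variable {G : Type*} [Group G] [Finite G]

/-- The data. -/
structure Mov (S : Sylow 2 G) (q : ℕ) (X : Subgroup G) : Prop where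
  le_W : X ≤ W S
  normal : M S ≤ Subgroup.normalizer (X : Set G)
  pgroup : IsPGroup q X
  exp : ∀ x ∈ X, x ^ q = 1
  fix_comm : ∀ x ∈ X, ∀ y ∈ X, ∀ s ∈ (S : Subgroup G), Commute s ⁅x, y⁆
  cen : ∀ x ∈ X, ∀ y ∈ X, ∀ z ∈ X, Commute ⁅x, y⁆ z
  moved : ∃ x ∈ X, ∃ s ∈ (S : Subgroup G), s * x ≠ x * s

theorem eq_one_of_inv_eq {H : Subgroup G} (hH : ¬ 2 ∣ Nat.card H) {x : G} (hx : x ∈ H) (h : x⁻¹ = x) : x = 1 := by
  haveI : Fact (Nat.Prime 2) := ⟨Nat.prime_two⟩
  by_contra h1
  have ho : orderOf x = 2 := orderOf_eq_prime (by rw [pow_two]; nth_rewrite 1 [← h]; group) h1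
  have := orderOf_dvd_natCard (⟨x, hx⟩ : H)
  rw [Subgroup.orderOf_mk, ho] at this
  exact hH this

theorem pCore_map_normalizer (q : ℕ) (K : Subgroup G) :
    Subgroup.normalizer (K : Set G) ≤ Subgroup.normalizer ((Cfsg.pCore q K).map K.subtype : Set G) := by
  intro g hg
  have key : ∀ g ∈ Subgroup.normalizer (K : Set G), ∀ x ∈ (Cfsg.pCore q K).map K.subtype,
      g * x * g⁻¹ ∈ (Cfsg.pCore q K).map K.subtype := by
    intro g hg x hx
    obtain ⟨y, hy, rfl⟩ := hx
    let E : K →* K := ((MulAut.conj g).toMonoidHom.comp K.subtype).codRestrict K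
      (fun c => (Subgroup.mem_normalizer_iff.1 hg (c : G)).1 c.2)
    have hE : Function.Surjective E := fun c => ⟨⟨g⁻¹ * (c : G) * g,
      (Subgroup.mem_normalizer_iff''.1 hg (c : G)).1 c.2⟩, Subtype.ext (by simp [E, mul_assoc])⟩
    exact ⟨E y, FittingCores.le_pCore ((FittingCores.pCore_normal q).map E hE)
      ((FittingCores.pCore_isPGroup q).map E) (Subgroup.mem_map_of_mem E hy), rfl⟩
  refine Subgroup.mem_normalizer_iff.2 fun x => ⟨key g hg x, fun hx => ?_⟩
  simpa [mul_assoc] using key g⁻¹ (inv_mem hg) _ hx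

namespace Hyp

variable {S : Sylow 2 G} (h : Hyp S)
include h

theorem sss {s x : G} (hs : s ∈ (S : Subgroup G)) : s * (s * x * s) * s = x := by
  calc s * (s * x * s) * s = (s * s) * x * (s * s) := by group
    _ = x := by rw [h.exp s hs]; group

theorem s_mul {s : G} (hs : s ∈ (S : Subgroup G)) (x y : G) : s * (x * y) * s = (s * x * s) * (s * y * s) := by
  calc s * (x * y) * s = s * x * (s * s) * y * s := by rw [h.exp s hs]; group
    _ = _ := by group

theorem s_inv {s : G} (hs : s ∈ (S : Subgroup G)) (x : G) : s * x⁻¹ * s = (s * x * s)⁻¹ := by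
  rw [mul_inv_rev, mul_inv_rev, h.inv_eq hs, mul_assoc]

theorem s_pow {s : G} (hs : s ∈ (S : Subgroup G)) (x : G) (n : ℕ) : s * x ^ n * s = (s * x * s) ^ n := by
  induction n with
  | zero => rw [pow_zero, pow_zero, mul_one, h.exp s hs]
  | succ n ih => rw [pow_succ, pow_succ, h.s_mul hs, ih]

theorem inverted {s : G} (hs : s ∈ (S : Subgroup G)) (x : G) :
    s * (x⁻¹ * (s * x * s)) * s = (x⁻¹ * (s * x * s))⁻¹ := by
  rw [h.s_mul hs, h.s_inv hs, h.sss hs, mul_inv_rev x⁻¹, inv_inv]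

theorem not_moved_of_fix {X : Subgroup G} (hXW : X ≤ W S) {s : G} (hs : s ∈ (S : Subgroup G))
    (hXs : ∀ x ∈ X, s * x * s ∈ X) (hfix : ∀ x ∈ X, s * (x⁻¹ * (s * x * s)) = x⁻¹ * (s * x * s) * s) :
    ∀ x ∈ X, s * x = x * s := by
  intro x hx
  set i := x⁻¹ * (s * x * s) with hi
  have hi_inv : s * i * s = i⁻¹ := h.inverted hs x
  have hi_fix : s * i * s = i := by rw [hfix x hx, mul_assoc, h.exp s hs, mul_one]
  have h1 : i = 1 := eq_one_of_inv_eq h.W_odd (hXW (mul_mem (inv_mem hx) (hXs x hx))) (hi_inv.symm.trans hi_fix)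
  rw [hi, inv_mul_eq_one] at h1
  calc s * x = s * x * (s * s) := by rw [h.exp s hs, mul_one]
    _ = (s * x * s) * s := by group
    _ = _ := by rw [← h1]

theorem smem_of_normal {X : Subgroup G} (hXn : M S ≤ Subgroup.normalizer (X : Set G)) {s x : G}
    (hs : s ∈ (S : Subgroup G)) (hx : x ∈ X) : s * x * s ∈ X := by
  have := (Subgroup.mem_normalizer_iff.1 (hXn (h.S_le_M hs)) x).1 hx
  rwa [h.inv_eq hs] at this

theorem exists_moved_core (hmov : ∃ w ∈ W S, ∃ s ∈ (S : Subgroup G), s * w ≠ w * s) :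
    ∃ q : ℕ, q.Prime ∧ ∃ X : Subgroup G, X ≤ W S ∧ M S ≤ Subgroup.normalizer (X : Set G) ∧ IsPGroup q X ∧
      ∃ x ∈ X, ∃ s ∈ (S : Subgroup G), s * x ≠ x * s := by
  by_contra hcon
  push_neg at hcon
  obtain ⟨w, hw, s, hs, hne⟩ := hmov
  have hWne : W S ≠ ⊤ := fun e => h.W_odd (by rw [e, Subgroup.card_top]; exact h.two_dvd_card)
  haveI : Group.IsSolvable (W S) := h.solv _ hWne
  set F := (Cfsg.fittingSubgroup (W S)).map (W S).subtype with hF
  have hFfix : ∀ f ∈ F, ∀ t ∈ (S : Subgroup G), t * f = f * t := by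
    have hle : F ≤ Subgroup.centralizer ((S : Subgroup G) : Set G) := by
      rw [hF, FittingCores.fitting_eq_iSup_pCore, Subgroup.map_iSup]
      refine iSup_le fun p => fun f hf => Subgroup.mem_centralizer_iff.2 fun t ht => ?_
      exact hcon (p : ℕ) p.2 _ (Subgroup.map_subtype_le _) (h.M_le_NW.trans (pCore_map_normalizer _ _))
        ((FittingCores.pCore_isPGroup _).map _) f hf t ht
    exact fun f hf t ht => Subgroup.mem_centralizer_iff.1 (hle hf) t ht
  refine hne (h.not_moved_of_fix le_rfl hs (fun x hx => h.smem_of_normal h.M_le_NW hs hx) ?_ w hw)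
  intro x hx
  refine hFfix _ ?_ s hs
  have hxs : s * x * s ∈ W S := h.smem_of_normal h.M_le_NW hs hx
  refine ⟨⟨x⁻¹ * (s * x * s), mul_mem (inv_mem hx) hxs⟩,
    FittingCores.centralizer_fitting_le (Subgroup.mem_centralizer_iff.2 fun f hf => Subtype.ext ?_), rfl⟩
  have hfF : (f : G) ∈ F := ⟨f, hf, rfl⟩
  haveI : (Cfsg.fittingSubgroup (W S)).Normal := FittingCores.fitting_normal
  have hxf : x * (f : G) * x⁻¹ ∈ F :=
    ⟨(⟨x, hx⟩ : W S) * f * (⟨x, hx⟩ : W S)⁻¹, ‹(Cfsg.fittingSubgroup (W S)).Normal›.conj_mem f hf _, rfl⟩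
  show (f : G) * (x⁻¹ * (s * x * s)) = x⁻¹ * (s * x * s) * (f : G)
  have e1 : s * x * s * (f : G) = x * (f : G) * x⁻¹ * (s * x * s) := by
    calc s * x * s * (f : G) = s * x * (s * (f : G)) := by group
      _ = s * (x * (f : G) * x⁻¹) * (x * s) := by rw [hFfix _ hfF s hs]; group
      _ = x * (f : G) * x⁻¹ * s * (x * s) := by rw [hFfix _ hxf s hs]
      _ = _ := by group
  rw [mul_assoc x⁻¹, e1]
  group

theorem exists_mov (hmov : ∃ w ∈ W S, ∃ s ∈ (S : Subgroup G), s * w ≠ w * s) :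
    ∃ q : ℕ, q.Prime ∧ q ≠ 2 ∧ ∃ X : Subgroup G, Mov S q X := by
  obtain ⟨q, hq, P, hPW, hPn, hPp, hPm⟩ := h.exists_moved_core hmov
  haveI := Fact.mk hq
  let Φ : Set (Subgroup G) := {X | X ≤ W S ∧ M S ≤ Subgroup.normalizer (X : Set G) ∧ IsPGroup q X ∧
    ∃ x ∈ X, ∃ s ∈ (S : Subgroup G), s * x ≠ x * s}
  obtain ⟨X, ⟨hXW, hXn, hXp, hXm⟩, hmin⟩ :=
    (wellFounded_lt (α := Subgroup G)).has_min Φ ⟨P, hPW, hPn, hPp, hPm⟩
  have hfixlt : ∀ Y : Subgroup G, Y < X → M S ≤ Subgroup.normalizer (Y : Set G) →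
      ∀ y ∈ Y, ∀ s ∈ (S : Subgroup G), s * y = y * s := by
    intro Y hY hYn y hy s hs
    by_contra hne
    exact hmin Y ⟨hY.le.trans hXW, hYn, hXp.to_le hY.le, y, hy, s, hs, hne⟩ hY
  have hX1 : X ≠ ⊥ := fun e => by
    obtain ⟨x, hx, s, -, hne⟩ := hXm
    rw [e, Subgroup.mem_bot] at hx
    subst hx
    exact hne (by rw [mul_one, one_mul])
  have hq2 : q ≠ 2 := by
    intro e
    obtain ⟨k, hk⟩ := IsPGroup.iff_card.1 hXp
    have hk0 : k ≠ 0 := fun e0 => hX1 (Subgroup.eq_bot_of_card_eq _ (by rw [hk, e0, pow_zero]))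
    refine h.W_odd ?_
    have h2 : 2 ∣ Nat.card X := by rw [hk, e]; exact dvd_pow_self 2 hk0
    exact h2.trans (Subgroup.card_dvd_of_le hXW)
  -- the derived group is fixed
  set D := ⁅X, X⁆ with hD
  have hDle : D ≤ X := Subgroup.commutator_le.2 fun a ha b hb =>
    mul_mem (mul_mem (mul_mem ha hb) (inv_mem ha)) (inv_mem hb)
  have hDlt : D < X := by
    refine lt_of_le_of_ne hDle fun e => ?_
    haveI : Group.IsNilpotent X := hXp.isNilpotent
    haveI : Nontrivial X := (Subgroup.nontrivial_iff_ne_bot X).2 hX1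
    have h1 : ⁅(⊤ : Subgroup X), (⊤ : Subgroup X)⁆ < (⊤ : Subgroup X) :=
      IsSolvable.commutator_lt_top_of_nontrivial (G := X)
    refine h1.ne ((Subgroup.map_injective X.subtype_injective) ?_)
    rw [Subgroup.map_commutator, ← MonoidHom.range_eq_map, Subgroup.range_subtype]
    exact e
  have hmapconj : ∀ Y : Subgroup G, ∀ g : G, g ∈ Subgroup.normalizer (Y : Set G) →
      Y.map (MulAut.conj g).toMonoidHom = Y := fun Y g hg => Subgroup.mem_normalizer_iff_map_conj_eq.1 hg
  have hDn : M S ≤ Subgroup.normalizer (D : Set G) := by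
    intro g hg
    rw [Subgroup.mem_normalizer_iff_map_conj_eq, hD]
    refine (Subgroup.map_commutator _ _ _).trans ?_
    have hX' := hmapconj X g (hXn hg)
    simp only [MulEquiv.toMonoidHom_eq_coe] at hX' ⊢
    rw [hX']
  have hDfix : ∀ y ∈ D, ∀ s ∈ (S : Subgroup G), s * y = y * s := hfixlt D hDlt hDn
  have hcen : ∀ x ∈ X, ∀ y ∈ X, ∀ z ∈ X, Commute ⁅x, y⁆ z := by
    set Z := X ⊓ Subgroup.centralizer (D : Set G) with hZ
    by_cases hZX : Z = X
    · intro x hx y hy z hz
      exact Subgroup.mem_centralizer_iff.1 (Subgroup.mem_inf.1 (hZX.ge hz)).2 _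
        (Subgroup.commutator_mem_commutator hx hy)
    · exfalso
      have hZn : M S ≤ Subgroup.normalizer (Z : Set G) := by
        intro g hg
        refine Subgroup.inf_normalizer_le_normalizer_inf (Subgroup.mem_inf.2 ⟨hXn hg, ?_⟩)
        rw [Subgroup.mem_normalizer_iff_map_conj_eq]
        refine le_antisymm ?_ ?_
        · rintro _ ⟨c, hc, rfl⟩
          refine Subgroup.mem_centralizer_iff.2 fun d hd => ?_
          obtain ⟨d', hd', rfl⟩ := (hmapconj D g (hDn hg)).ge hd
          simp only [MulEquiv.toMonoidHom_eq_coe, MonoidHom.coe_coe, MulAut.conj_apply]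
          rw [show g * d' * g⁻¹ * (g * c * g⁻¹) = g * (d' * c) * g⁻¹ by group,
            Subgroup.mem_centralizer_iff.1 hc d' hd']
          group
        · intro c hc
          refine ⟨g⁻¹ * c * g, Subgroup.mem_centralizer_iff.2 fun d hd => ?_, by simp [mul_assoc]⟩
          have hd' : g * d * g⁻¹ ∈ D := (Subgroup.mem_normalizer_iff.1 (hDn hg) d).1 hd
          have := Subgroup.mem_centralizer_iff.1 hc _ hd'
          calc d * (g⁻¹ * c * g) = g⁻¹ * (g * d * g⁻¹ * c) * g := by group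
            _ = _ := by rw [this]; group
      have hZfix := hfixlt Z (lt_of_le_of_ne inf_le_left hZX) hZn
      obtain ⟨x, hx, s, hs, hne⟩ := hXm
      refine hne (h.not_moved_of_fix hXW hs (fun y hy => h.smem_of_normal hXn hs hy) ?_ x hx)
      intro y hy
      have hys := h.smem_of_normal hXn hs hy
      refine hZfix _ ⟨X.mul_mem (X.inv_mem hy) hys, Subgroup.mem_centralizer_iff.2 fun d hd => ?_⟩ s hs
      have hyd : y * d * y⁻¹ ∈ D := by
        have : X ≤ Subgroup.normalizer (D : Set G) := (hXW.trans le_sup_left).trans hDn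
        exact (Subgroup.mem_normalizer_iff.1 (this hy) d).1 hd
      have e1 : s * y * s * d = y * d * y⁻¹ * (s * y * s) := by
        calc s * y * s * d = s * y * (s * d) := by group
          _ = s * (y * d * y⁻¹) * (y * s) := by rw [hDfix d hd s hs]; group
          _ = y * d * y⁻¹ * s * (y * s) := by rw [hDfix _ hyd s hs]
          _ = _ := by group
      rw [mul_assoc y⁻¹, e1]
      group
  -- exponent q
  set R := {x : G | x ∈ X ∧ x ^ q = 1} with hR
  have hRclosure : Subgroup.closure R = X := by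
    have hYle : Subgroup.closure R ≤ X := (Subgroup.closure_le _).2 fun x hx => hx.1
    by_contra hY
    have hlt := lt_of_le_of_ne hYle hY
    have hYn : M S ≤ Subgroup.normalizer (Subgroup.closure R : Set G) := by
      intro g hg
      have hRconj : ∀ g ∈ M S, ∀ x ∈ R, g * x * g⁻¹ ∈ R := fun g hg x hx =>
        ⟨(Subgroup.mem_normalizer_iff.1 (hXn hg) x).1 hx.1, by rw [conj_pow, hx.2, mul_one, mul_inv_cancel]⟩
      rw [Subgroup.mem_normalizer_iff_map_conj_eq, MonoidHom.map_closure]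
      congr 1
      ext x
      constructor
      · rintro ⟨y, hy, rfl⟩
        exact hRconj g hg y hy
      · exact fun hx => ⟨g⁻¹ * x * g, by simpa using hRconj g⁻¹ (inv_mem hg) x hx, by simp [mul_assoc]⟩
    have hYfix := hfixlt _ hlt hYn
    obtain ⟨x, hx, s, hs, hne⟩ := hXm
    refine hne (h.not_moved_of_fix hXW hs (fun y hy => h.smem_of_normal hXn hs hy) ?_ x hx)
    intro y hy
    set i := y⁻¹ * (s * y * s) with hi
    have hiX : i ∈ X := mul_mem (inv_mem hy) (h.smem_of_normal hXn hs hy)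
    have hiinv : s * i * s = i⁻¹ := h.inverted hs y
    suffices hi1 : i = 1 by rw [hi1, mul_one, one_mul]
    by_contra hi1
    obtain ⟨k, hk⟩ := IsPGroup.iff_orderOf.1 hXp ⟨i, hiX⟩
    rw [Subgroup.orderOf_mk] at hk
    have hk0 : k ≠ 0 := fun e => hi1 (orderOf_eq_one_iff.1 (by rw [hk, e, pow_zero]))
    obtain ⟨k, rfl⟩ := Nat.exists_eq_succ_of_ne_zero hk0
    have hjR : i ^ q ^ k ∈ R := ⟨pow_mem hiX _, by rw [← pow_mul, ← pow_succ, ← hk, pow_orderOf_eq_one]⟩
    have hjfix := hYfix _ (Subgroup.subset_closure hjR) s hs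
    have hjinv : s * i ^ q ^ k * s = (i ^ q ^ k)⁻¹ := by
      rw [← inv_pow, ← hiinv, h.s_pow hs]
    have hj1 : i ^ q ^ k = 1 := eq_one_of_inv_eq h.W_odd (hXW hjR.1)
      (hjinv.symm.trans (by rw [hjfix, mul_assoc, h.exp s hs, mul_one]))
    have := orderOf_dvd_of_pow_eq_one hj1
    rw [hk] at this
    have := Nat.le_of_dvd (pow_pos hq.pos k) this
    exact absurd this (not_le.2 (Nat.pow_lt_pow_right hq.one_lt (Nat.lt_succ_self k)))
  have hpow : ∀ u ∈ X, ∀ v ∈ X, ⁅u, v⁆ ^ q = 1 := by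
    intro u hu v hv
    rw [← hRclosure] at hu
    revert v
    induction hu using Subgroup.closure_induction with
    | mem u hu =>
      intro v hv
      have e : ∀ n : ℕ, ⁅u ^ n, v⁆ = ⁅u, v⁆ ^ n := by
        intro n
        induction n with
        | zero => rw [pow_zero, pow_zero, commutatorElement_one_left]
        | succ n ih =>
          rw [pow_succ' u, commutatorElement_mul_left_eq_conj_mul, ih, pow_succ,
            ((hcen u hu.1 v hv u hu.1).pow_left n).symm.eq]
          group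
      rw [← e, hu.2, commutatorElement_one_left]
    | one => intro v _; rw [commutatorElement_one_left, one_pow]
    | mul a b ha hb ea eb =>
      intro v hv
      have haX : a ∈ X := hRclosure ▸ ha
      have hbX : b ∈ X := hRclosure ▸ hb
      rw [commutatorElement_mul_left_eq_conj_mul, (hcen b hbX v hv a haX).symm.eq, mul_inv_cancel_right,
        (hcen b hbX v hv _ (hDle (Subgroup.commutator_mem_commutator haX hv))).mul_pow, eb v hv, ea v hv, one_mul]
    | inv a ha ea =>
      intro v hv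
      have haX : a ∈ X := hRclosure ▸ ha
      have e : ⁅a⁻¹, v⁆ = ⁅a, v⁆⁻¹ := by
        rw [commutatorElement_inv_left, commutatorElement_inv, mul_assoc,
          (hcen v hv a haX a haX).eq, inv_mul_cancel_left]
      rw [e, inv_pow, ea v hv, inv_one]
  refine ⟨q, hq, hq2, X, ⟨hXW, hXn, hXp, ?_, ?_, hcen, hXm⟩⟩
  · exact ZJ.pow_eq_one_of_closure hq2 hRclosure hcen hpow (fun w hw => hw.2)
  · exact fun x hx y hy s hs => hDfix _ (Subgroup.commutator_mem_commutator hx hy) s hs

theorem card_N : Nat.card (Subgroup.normalizer ((S : Subgroup G) : Set G)) =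
    7 * Nat.card (Subgroup.centralizer ((S : Subgroup G) : Set G)) := by
  classical
  obtain ⟨a, ha, ha1, -⟩ := h.exists_three
  rw [← card_conj (Subgroup.normalizer ((S : Subgroup G) : Set G)) a]
  congr 1
  · have h1 : Nat.card {x : (S : Subgroup G) // x ≠ 1} = 7 := by
      have := Nat.card_congr (Equiv.optionSubtypeNe (1 : (S : Subgroup G)))
      rw [Finite.card_option, h.card] at this
      omega
    rw [← h1]
    refine Nat.card_congr (Equiv.ofBijective (fun x => ⟨⟨x.1, ?_⟩, ?_⟩) ⟨?_, ?_⟩)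
    · obtain ⟨n, hn, e⟩ := x.2
      exact e ▸ (Subgroup.mem_normalizer_iff.1 hn a).1 ha
    · intro e
      obtain ⟨n, -, e'⟩ := x.2
      exact ha1 (conj_eq_one_iff.1 (e'.trans (congrArg Subtype.val e)))
    · intro x y e
      exact Subtype.ext (congrArg (fun z : {x : (S : Subgroup G) // x ≠ 1} => ((z.1 : G))) e)
    · intro y
      obtain ⟨n, hn, e⟩ := h.transitive ha ha1 y.1.2 (fun e => y.2 (Subtype.ext e))
      exact ⟨⟨(y.1 : G), n, hn, e⟩, rfl⟩
  · have e : Subgroup.normalizer ((S : Subgroup G) : Set G) ⊓ C a =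
        Subgroup.centralizer ((S : Subgroup G) : Set G) := by
      ext n
      refine ⟨fun hn => Subgroup.mem_centralizer_iff.2 fun s hs =>
        (h.free hn.1 ha ha1 (conj_eq_iff_mem_C.2 hn.2) hs).symm, fun hn => ⟨Subgroup.centralizer_le_normalizer _ hn,
          mem_C.2 (Subgroup.mem_centralizer_iff.1 hn a ha).symm⟩⟩
    rw [e]

end Hyp

/-- A joint eigenvector of S. -/
structure Eig (S : Sylow 2 G) (X : Subgroup G) (e : G) : Prop where
  mem : e ∈ X
  ne_one : e ≠ 1
  sign : ∀ s ∈ (S : Subgroup G), s * e * s = e ∨ s * e * s = e⁻¹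
  moved : ∃ s ∈ (S : Subgroup G), s * e * s = e⁻¹

namespace Mov

variable {S : Sylow 2 G} {q : ℕ} {X : Subgroup G}

theorem odd_X (mv : Mov S q X) (h : Hyp S) : ¬ 2 ∣ Nat.card X := fun e =>
  h.W_odd (e.trans (Subgroup.card_dvd_of_le mv.le_W))

theorem ne_inv (mv : Mov S q X) (h : Hyp S) {e : G} (he : e ∈ X) (h1 : e ≠ 1) : e⁻¹ ≠ e := fun e' =>
  h1 (eq_one_of_inv_eq (mv.odd_X h) he e')

theorem exists_eig (mv : Mov S q X) (h : Hyp S) : ∃ e, Eig S X e := by
  classical
  obtain ⟨x, hx, a, ha, hne⟩ := mv.moved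
  set i := x⁻¹ * (a * x * a) with hi
  have hiinv : a * i * a = i⁻¹ := h.inverted ha x
  have hi1 : i ≠ 1 := by
    intro e
    rw [hi, inv_mul_eq_one] at e
    refine hne ?_
    calc a * x = a * x * (a * a) := by rw [h.exp a ha, mul_one]
      _ = (a * x * a) * a := by group
      _ = _ := by rw [← e]
  have hiX : i ∈ X := mul_mem (inv_mem hx) (h.smem_of_normal mv.normal ha hx)
  have key : ∀ T : Finset G, (∀ s ∈ T, s ∈ (S : Subgroup G)) → ∃ e ∈ X, e ≠ 1 ∧ a * e * a = e⁻¹ ∧
      ∀ s ∈ T, s * e * s = e ∨ s * e * s = e⁻¹ := by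
    intro T
    induction T using Finset.induction_on with
    | empty => exact fun _ => ⟨i, hiX, hi1, hiinv, by simp⟩
    | insert s T hsT ih =>
      intro hTS
      have hs : s ∈ (S : Subgroup G) := hTS s (Finset.mem_insert_self _ _)
      obtain ⟨e, heX, he1, hea, heT⟩ := ih fun t ht => hTS t (Finset.mem_insert_of_mem ht)
      by_cases hfix : s * e * s = e
      · refine ⟨e, heX, he1, hea, fun t ht => ?_⟩
        rcases Finset.mem_insert.1 ht with rfl | ht
        exacts [Or.inl hfix, heT t ht]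
      set e1 := s * e * s with he1d
      have he1X : e1 ∈ X := h.smem_of_normal mv.normal hs heX
      have hcomm : Commute e e1 := by
        rw [← commutatorElement_eq_one_iff_commute]
        refine eq_one_of_inv_eq (mv.odd_X h) ?_ ?_
        · exact mul_mem (mul_mem (mul_mem heX he1X) (inv_mem heX)) (inv_mem he1X)
        · have hf : s * ⁅e, e1⁆ * s = ⁅e, e1⁆ := by
            rw [(mv.fix_comm e heX e1 he1X s hs).eq, mul_assoc, h.exp s hs, mul_one]
          have hf2 : s * ⁅e, e1⁆ * s = ⁅e1, e⁆ := by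
            rw [commutatorElement_def, commutatorElement_def, h.s_mul hs, h.s_mul hs, h.s_mul hs, h.s_inv hs, h.s_inv hs]
            rw [show s * e1 * s = e from h.sss hs]
          rw [commutatorElement_inv, ← hf2, hf]
      have hsign : ∀ t ∈ (S : Subgroup G), t * e * t = e → t * e1 * t = e1 := by
        intro t ht hte
        calc t * e1 * t = (t * s) * e * (s * t) := by rw [he1d]; group
          _ = (s * t) * e * (t * s) := by rw [h.comm ht hs]
          _ = s * (t * e * t) * s := by group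
          _ = _ := by rw [hte]
      have hsign' : ∀ t ∈ (S : Subgroup G), t * e * t = e⁻¹ → t * e1 * t = e1⁻¹ := by
        intro t ht hte
        calc t * e1 * t = (t * s) * e * (s * t) := by rw [he1d]; group
          _ = (s * t) * e * (t * s) := by rw [h.comm ht hs]
          _ = s * (t * e * t) * s := by group
          _ = _ := by rw [hte, h.s_inv hs]
      have hj : ∀ t ∈ (S : Subgroup G), (t * e * t = e → t * (e⁻¹ * e1) * t = e⁻¹ * e1) ∧
          (t * e * t = e⁻¹ → t * (e⁻¹ * e1) * t = (e⁻¹ * e1)⁻¹) := by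
        intro t ht
        have e0 : t * (e⁻¹ * e1) * t = (t * e * t)⁻¹ * (t * e1 * t) := by
          rw [h.s_mul ht, h.s_inv ht]
        refine ⟨fun hte => by rw [e0, hte, hsign t ht hte], fun hte => ?_⟩
        rw [e0, hte, hsign' t ht hte, inv_inv, mul_inv_rev e⁻¹, inv_inv]
        exact (hcomm.inv_right).eq
      refine ⟨e⁻¹ * e1, mul_mem (inv_mem heX) he1X, ?_, (hj a ha).2 hea, fun t ht => ?_⟩
      · intro e'
        rw [inv_mul_eq_one] at e'
        exact hfix e'.symm
      · rcases Finset.mem_insert.1 ht with rfl | ht'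
        · right
          exact h.inverted hs e
        · rcases heT t ht' with e' | e'
          exacts [Or.inl ((hj t (hTS t ht)).1 e'), Or.inr ((hj t (hTS t ht)).2 e')]
  letI := Fintype.ofFinite (S : Subgroup G)
  obtain ⟨e, heX, he1, hea, heT⟩ := key ((Finset.univ : Finset (S : Subgroup G)).image Subtype.val)
    (by intro s hs; obtain ⟨t, -, rfl⟩ := Finset.mem_image.1 hs; exact t.2)
  exact ⟨e, heX, he1, fun s hs => heT s (Finset.mem_image.2 ⟨⟨s, hs⟩, Finset.mem_univ _, rfl⟩), a, ha, hea⟩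

end Mov

namespace Eig

variable {S : Sylow 2 G} {q : ℕ} {X : Subgroup G} {e : G}

theorem conj (he : Eig S X e) (h : Hyp S) (mv : Mov S q X) {n : G}
    (hn : n ∈ Subgroup.normalizer ((S : Subgroup G) : Set G)) : Eig S X (n * e * n⁻¹) := by
  have hns : ∀ s ∈ (S : Subgroup G), n⁻¹ * s * n ∈ (S : Subgroup G) := fun s hs =>
    (Subgroup.mem_normalizer_iff''.1 hn s).1 hs
  have key : ∀ s ∈ (S : Subgroup G), s * (n * e * n⁻¹) * s = n * ((n⁻¹ * s * n) * e * (n⁻¹ * s * n)) * n⁻¹ :=
    fun s _ => by group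
  refine ⟨(Subgroup.mem_normalizer_iff.1 (mv.normal (Subgroup.mem_sup_right hn)) e).1 he.mem,
    fun e' => he.ne_one (conj_eq_one_iff.1 e'), fun s hs => ?_, ?_⟩
  · rcases he.sign _ (hns s hs) with e' | e'
    · exact Or.inl (by rw [key s hs, e'])
    · exact Or.inr (by rw [key s hs, e']; group)
  · obtain ⟨s, hs, e'⟩ := he.moved
    refine ⟨n * s * n⁻¹, (Subgroup.mem_normalizer_iff.1 hn s).1 hs, ?_⟩
    rw [key _ ((Subgroup.mem_normalizer_iff.1 hn s).1 hs),
      show n⁻¹ * (n * s * n⁻¹) * n = s by group, e']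
    group

theorem fix_iff (he : Eig S X e) (h : Hyp S) (mv : Mov S q X) {s : G} (hs : s ∈ (S : Subgroup G)) :
    (s ∈ C e ↔ s * e * s = e) ∧ (s ∉ C e ↔ s * e * s = e⁻¹) := by
  have h1 : s ∈ C e ↔ s * e * s = e := by
    rw [← conj_eq_iff_mem_C, h.inv_eq hs]
  refine ⟨h1, ?_⟩
  rw [h1]
  exact ⟨(he.sign s hs).resolve_left, fun e' e'' => mv.ne_inv h he.mem he.ne_one (e'.symm.trans e'')⟩

end Eig

end Cfsg.Agent.EightSylow
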