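import Cfsg.Agent.Lib.EightSylow.Moved
import Cfsg.Agent.Lib.Solvable.Structure

/-!
S centralises W.
-/

set_option autoImplicit false
set_option linter.style.haveILetI false
set_option linter.unusedSectionVars false

open scoped commutatorElement Pointwise

namespace Cfsg.Agent.EightSylow

variable {G : Type*} [Group G] [Finite G]

theorem mem_pair {z y g : G} (hzy : Commute z y) (hg : g ∈ Subgroup.closure ({z, y} : Set G)) :
    ∃ i j : ℤ, g = z ^ i * y ^ j := by
  induction hg using Subgroup.closure_induction with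
  | mem u hu =>
    rcases hu with rfl | rfl
    exacts [⟨1, 0, by simp⟩, ⟨0, 1, by simp⟩]
  | one => exact ⟨0, 0, by simp⟩
  | mul u v _ _ hu hv =>
    obtain ⟨i, j, rfl⟩ := hu
    obtain ⟨k, l, rfl⟩ := hv
    refine ⟨i + k, j + l, ?_⟩
    have e := (hzy.zpow_zpow k j).eq
    calc z ^ i * y ^ j * (z ^ k * y ^ l) = z ^ i * (y ^ j * z ^ k) * y ^ l := by group
      _ = z ^ i * (z ^ k * y ^ j) * y ^ l := by rw [e]
      _ = _ := by group
  | inv u _ hu =>
    obtain ⟨i, j, rfl⟩ := hu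
    refine ⟨-i, -j, ?_⟩
    have e := (hzy.zpow_zpow (-i) (-j)).eq
    calc (z ^ i * y ^ j)⁻¹ = y ^ (-j) * z ^ (-i) := by group
      _ = _ := e.symm

namespace Mov

variable {S : Sylow 2 G} {q : ℕ} {X : Subgroup G} [hq : Fact q.Prime] (mv : Mov S q X) (h : Hyp S)
include mv h

theorem X_le_M : X ≤ M S := mv.le_W.trans le_sup_left

/-- A good pair is unique to M. -/
theorem good_two {z y : G} (hz : z ∈ X) (hy : y ∈ X) (hzy : Commute z y) (hz1 : z ≠ 1)
    (hy1 : y ∉ Subgroup.zpowers z)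
    (hgood : ∀ g ∈ Subgroup.closure ({z, y} : Set G), g ≠ 1 → C g ≤ M S) :
    ∀ H : Subgroup G, H ≠ ⊤ → z ∈ H → y ∈ H → H ≤ M S := by
  intro H hH hzH hyH
  set U := Subgroup.closure ({z, y} : Set G) with hU
  have hzU : z ∈ U := Subgroup.subset_closure (Or.inl rfl)
  have hyU : y ∈ U := Subgroup.subset_closure (Or.inr rfl)
  have hUX : U ≤ X := (Subgroup.closure_le _).2 (by rintro u (rfl | rfl); exacts [hz, hy])
  haveI hUc : IsMulCommutative U := Subgroup.isMulCommutative_closure fun u hu v hv => by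
    rcases hu with rfl | rfl <;> rcases hv with rfl | rfl <;> first | rfl | exact hzy.eq | exact hzy.eq.symm
  have hUp : IsPGroup q U := mv.pgroup.to_le hUX
  have hUnc : ¬ IsCyclic U := by
    intro hc
    obtain ⟨g, hg⟩ := hc.exists_generator
    have hcard : Nat.card U ≤ q := by
      rw [← orderOf_eq_card_of_forall_mem_zpowers hg, ← Subgroup.orderOf_coe]
      exact orderOf_le_of_pow_eq_one hq.out.pos (mv.exp _ (hUX g.2))
    have e : Subgroup.zpowers z = U := Subgroup.eq_of_le_of_card_ge (Subgroup.zpowers_le.2 hzU) (by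
      rw [Nat.card_zpowers, orderOf_eq_prime (mv.exp z hz) hz1]; exact hcard)
    exact hy1 (e.ge hyU)
  refine mv.good h (U : Set G) (fun K hK hUK => ?_) (fun K hK hUK => Or.inr ?_) H hH
    ((Subgroup.closure_le _).2 (by rintro u (rfl | rfl); exacts [hzH, hyH]))
  · have hcop : (Nat.card U).Coprime (Nat.card (core' q K)) := by
      obtain ⟨k, hk⟩ := IsPGroup.iff_card.1 hUp
      rw [hk]
      exact Nat.Coprime.pow_left k ((Nat.Prime.coprime_iff_not_dvd hq.out).2 (not_dvd_core' K))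
    rw [← CoprimeAct.generated_by_centralizers hUnc
      ((SetLike.coe_subset_coe.1 hUK).trans (le_normalizer_core' K)) hcop]
    exact iSup₂_le fun u hu => inf_le_right.trans (hgood u hu.1 hu.2)
  · have hle : U ≤ K ⊓ M S := le_inf (SetLike.coe_subset_coe.1 hUK) (hUX.trans (mv.X_le_M h))
    obtain ⟨T, hT⟩ := (hUp.comap_of_injective (K ⊓ M S).subtype (K ⊓ M S).subtype_injective).exists_le_sylow
    have hUT : U ≤ (T : Subgroup ↥(K ⊓ M S)).map (K ⊓ M S).subtype := fun u hu => ⟨⟨u, hle hu⟩, hT hu, rfl⟩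
    refine ⟨_, Subgroup.map_subtype_le _, T.isPGroup'.map _, ?_,
      fun u hu => Subgroup.le_normalizer (hUT hu), fun R hR hRp => ?_⟩
    · intro e
      exact hz1 (Subgroup.mem_bot.1 (e ▸ hUT hzU))
    · obtain ⟨T2, hT2⟩ := (hRp.comap_of_injective (K ⊓ M S).subtype (K ⊓ M S).subtype_injective).exists_le_sylow
      rw [Subgroup.card_map_of_injective (K ⊓ M S).subtype_injective, ← Nat.card_congr (Sylow.equiv T2 T).toEquiv]
      calc Nat.card R = Nat.card (R.subgroupOf (K ⊓ M S)) :=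
            (Nat.card_congr (Subgroup.subgroupOfEquivOfLe hR).toEquiv).symm
        _ ≤ _ := Subgroup.card_le_of_le hT2

/-- An element fixing the same points as an involution inverting it is centralised. -/
theorem le_centralizer_of_fixed {R : Subgroup G} {a e : G} (ha : a ∈ (S : Subgroup G)) (ha1 : a ≠ 1)
    (he : e ∈ X) (he1 : e ≠ 1) (hinv : a * e * a = e⁻¹) (hRsol : Group.IsSolvable R)
    (hR2 : ¬ 2 ∣ Nat.card R) (hRq : ¬ q ∣ Nat.card R) (haR : a ∈ Subgroup.normalizer (R : Set G))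
    (heR : e ∈ Subgroup.normalizer (R : Set G)) (hfix : R ⊓ C a ≤ C e) : R ≤ C e := by
  set U := Subgroup.zpowers e with hU
  set E := Subgroup.zpowers a with hE
  have hUc : Nat.card U = q := by rw [hU, Nat.card_zpowers, orderOf_eq_prime (mv.exp e he) he1]
  have hEc : Nat.card E = 2 := by rw [hE, Nat.card_zpowers, h.order2 ha ha1]
  have hEmem : ∀ x ∈ E, x = 1 ∨ x = a := by
    intro x hx
    obtain ⟨k, rfl⟩ := Subgroup.mem_zpowers_iff.1 hx
    rcases Int.even_or_odd k with ⟨m, rfl⟩ | ⟨m, rfl⟩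
    · left; rw [← two_mul, zpow_mul, zpow_two, h.exp a ha, one_zpow]
    · right; rw [zpow_add, zpow_mul, zpow_two, h.exp a ha, one_zpow, one_mul, zpow_one]
  have hUinv : ∀ u ∈ U, a * u * a = u⁻¹ := by
    intro u hu
    obtain ⟨k, rfl⟩ := Subgroup.mem_zpowers_iff.1 hu
    rw [mv.zpow_sign h ha, hinv, inv_zpow]
  have hUX : U ≤ X := Subgroup.zpowers_le.2 he
  have hUE : U ⊓ E = ⊥ := by
    haveI : Fact (Nat.Prime 2) := ⟨Nat.prime_two⟩
    exact eq_bot_iff.2 fun x hx => Subgroup.mem_bot.2 (eq_one_of_odd_two (mv.odd_X h)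
      (IsPGroup.of_card (n := 1) (by rw [hEc, pow_one])) (hUX hx.1) hx.2)
  have hUn : ∀ x ∈ E, ∀ u ∈ U, x * u * x⁻¹ ∈ U := by
    intro x hx u hu
    rcases hEmem x hx with rfl | rfl
    · simpa using hu
    · rw [h.inv_eq ha, hUinv u hu]; exact inv_mem hu
  have hfpf : ∀ x ∈ E, x ≠ 1 → ∀ u ∈ U, x * u = u * x → u = 1 := by
    intro x hx hx1 u hu hc
    obtain rfl := (hEmem x hx).resolve_left hx1
    refine eq_one_of_inv_eq (mv.odd_X h) (hUX hu) ?_
    rw [← hUinv u hu, hc, mul_assoc, h.exp _ ha, mul_one]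
  have hUEn : U ⊔ E ≤ Subgroup.normalizer (R : Set G) :=
    sup_le (Subgroup.zpowers_le.2 heR) (Subgroup.zpowers_le.2 haR)
  have hEN : E ≤ Subgroup.normalizer (U : Set G) := by
    intro x hx
    rw [Subgroup.mem_normalizer_iff]
    refine fun u => ⟨hUn x hx u, fun hu => ?_⟩
    simpa [mul_assoc] using hUn x⁻¹ (inv_mem hx) _ hu
  have hcard : Nat.card ↥(U ⊔ E) = q * 2 := by rw [SolvBasic.card_sup_of_inf_eq_bot hEN hUE, hUc, hEc]
  have hform := Char.Wielandt.frobenius_formula U E R hUE hUn hfpf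
    (fun x hx r hr => (Subgroup.mem_normalizer_iff.1 (hUEn hx) r).1 hr) hRsol (by
      rw [hcard]
      exact Nat.Coprime.mul_right ((Nat.Prime.coprime_iff_not_dvd hq.out).2 hRq).symm
        ((Nat.Prime.coprime_iff_not_dvd Nat.prime_two).2 hR2).symm)
  have hfe : R ⊓ Subgroup.centralizer (E : Set G) = R ⊓ Subgroup.centralizer ((U ⊔ E : Subgroup G) : Set G) := by
    refine le_antisymm (le_inf inf_le_left ?_) (inf_le_inf_left _ (Subgroup.centralizer_le (SetLike.coe_subset_coe.2 le_sup_right)))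
    intro x hx
    have hxa : x ∈ C a := mem_C.2 (Subgroup.mem_centralizer_iff.1 hx.2 a (Subgroup.mem_zpowers a)).symm
    have hxe : x ∈ C e := hfix ⟨hx.1, hxa⟩
    have hle : U ⊔ E ≤ C x := sup_le (Subgroup.zpowers_le.2 (mem_C.2 (mem_C.1 hxe).symm))
      (Subgroup.zpowers_le.2 (mem_C.2 (mem_C.1 hxa).symm))
    exact Subgroup.mem_centralizer_iff.2 fun y hy => mem_C.1 (hle hy)
  rw [hfe, hEc] at hform
  have h1 : Nat.card R = Nat.card ↥(R ⊓ Subgroup.centralizer (U : Set G)) :=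
    Nat.eq_of_mul_eq_mul_left (pow_pos Nat.card_pos 2) hform
  have h2 := Subgroup.eq_of_le_of_card_ge (inf_le_left : R ⊓ Subgroup.centralizer (U : Set G) ≤ R) h1.le
  intro r hr
  exact mem_C.2 (Subgroup.mem_centralizer_iff.1 (h2.ge hr).2 e (Subgroup.mem_zpowers e)).symm

/-- In the abelian case a fixed element is good. -/
theorem C_le_abelian (habel : ∀ x ∈ X, ∀ y ∈ X, Commute x y) {a b : G} (ha : a ∈ (S : Subgroup G))
    (ha1 : a ≠ 1) (hb : b ∈ X) (hb1 : b ≠ 1) (hab : a ∈ C b) : C b ≤ M S := by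
  haveI : Fact (Nat.Prime 2) := ⟨Nat.prime_two⟩
  obtain ⟨e, -, -, ⟨he, hea⟩, -, -, -, -, -⟩ := mv.lines_moved h ha ha1
  have hinv := (he.fix_iff h mv ha).2.1 hea
  have hXC : X ≤ C b := fun x hx => mem_C.2 (habel x hx b hb).eq
  refine mv.good h (Set.insert a (X : Set G)) (fun H hH hW => ?_) (fun H hH hW => ?_) (C b) (h.C_ne_top hb1)
    (Set.insert_subset_iff.2 ⟨hab, hXC⟩)
  · obtain ⟨haH, hXH⟩ := Set.insert_subset_iff.1 hW
    set R := core' q H with hR
    have hRH : R ≤ H := core'_le _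
    have hnorm := le_normalizer_core' (q := q) H
    have hRX : ∀ c ∈ R, c ∈ M S → ∀ x ∈ X, c * x = x * c := by
      intro c hc hcM x hx
      have h1 : c * x * c⁻¹ * x⁻¹ ∈ X :=
        mul_mem ((Subgroup.mem_normalizer_iff.1 (mv.normal hcM) x).1 hx) (inv_mem hx)
      have h2 : c * x * c⁻¹ * x⁻¹ ∈ R := by
        have h3 := (Subgroup.mem_normalizer_iff.1 (hnorm (hXH hx)) c⁻¹).1 (inv_mem hc)
        simpa [mul_assoc] using mul_mem hc h3
      have := eq_one_of_card_coprime (not_dvd_core' H) mv.pgroup h2 h1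
      rwa [mul_inv_eq_one, mul_inv_eq_iff_eq_mul] at this
    have haR : a ∉ R := fun haR => hea (mem_C.2 (hRX a haR (h.S_le_M ha) e he.mem))
    by_cases hR2 : 2 ∣ Nat.card R
    · -- two commuting involutions
      set L := R ⊔ Subgroup.zpowers a with hL
      have hLn : Subgroup.zpowers a ≤ Subgroup.normalizer (R : Set G) := Subgroup.zpowers_le.2 (hnorm haH)
      have hzp : IsPGroup 2 (Subgroup.zpowers a) :=
        IsPGroup.of_card (n := 1) (by rw [Nat.card_zpowers, h.order2 ha ha1, pow_one])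
      obtain ⟨P, hP⟩ := (hzp.comap_of_injective L.subtype L.subtype_injective).exists_le_sylow
      have haP : (⟨a, Subgroup.mem_sup_right (Subgroup.mem_zpowers a)⟩ : L) ∈ (P : Subgroup L) :=
        hP (Subgroup.mem_zpowers a)
      haveI hRn : (R.subgroupOf L).Normal := (Subgroup.normal_subgroupOf_iff_le_normalizer le_sup_left).2
        (sup_le Subgroup.le_normalizer hLn)
      obtain ⟨c, hc⟩ := exists_prime_orderOf_dvd_card' 2 hR2
      rw [← Subgroup.orderOf_coe] at hc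
      obtain ⟨P', hP'⟩ := (IsPGroup.of_card (n := 1) (by rw [Nat.card_zpowers, Subgroup.orderOf_mk, hc, pow_one]) :
        IsPGroup 2 (Subgroup.zpowers (⟨c, Subgroup.mem_sup_left c.2⟩ : L))).exists_le_sylow
      obtain ⟨g, hg⟩ := MulAction.exists_smul_eq L P' P
      set c' : L := g * ⟨c, Subgroup.mem_sup_left c.2⟩ * g⁻¹ with hc'
      have hc'P : c' ∈ (P : Subgroup L) := by
        rw [← hg]
        exact Subgroup.smul_mem_pointwise_smul _ (MulAut.conj g) _ (hP' (Subgroup.mem_zpowers _))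
      have hc'R : (c' : G) ∈ R := hRn.conj_mem _ (show (⟨c, _⟩ : L) ∈ R.subgroupOf L from c.2) g
      have hc'o : orderOf (c' : G) = 2 := by
        rw [hc', Subgroup.coe_mul, Subgroup.coe_mul, Subgroup.coe_inv, Invol.order_conj, hc]
      obtain ⟨Q, hQ⟩ := (P.isPGroup'.map L.subtype).exists_le_sylow
      have hca : (c' : G) * a = a * (c' : G) := by
        have hu : (c' : G) ∈ (Q : Subgroup G) := hQ ⟨c', hc'P, rfl⟩
        have hv : a ∈ (Q : Subgroup G) := hQ ⟨⟨a, Subgroup.mem_sup_right (Subgroup.mem_zpowers a)⟩, haP, rfl⟩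
        exact congrArg Subtype.val ((Sylow.equiv Q S).injective (by
          rw [map_mul, map_mul]
          exact Subtype.ext (h.comm ((Sylow.equiv Q S) ⟨_, hu⟩).2 ((Sylow.equiv Q S) ⟨_, hv⟩).2)) :
          (⟨_, hu⟩ : (Q : Subgroup G)) * ⟨_, hv⟩ = ⟨_, hv⟩ * ⟨_, hu⟩)
      refine hRH.trans (h.uniq4 hH haH (hRH hc'R) (h.S_le_M ha) (h.C_le_M ha ha1 (mem_C.2 hca))
        (h.order2 ha ha1) hc'o ?_ hca.symm)
      intro e'
      exact haR (e' ▸ hc'R)
    · have hRsol : Group.IsSolvable R :=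
        haveI := h.solv H hH
        Group.isSolvable_of_isSolvable_injective (f := Subgroup.inclusion hRH) (Subgroup.inclusion_injective _)
      refine (mv.le_centralizer_of_fixed h ha ha1 he.mem he.ne_one hinv hRsol hR2 (not_dvd_core' H) (hnorm haH)
        (hnorm (hXH he.mem)) ?_).trans (mv.C_eig_le h he)
      exact fun c hc => mem_C.2 (hRX c hc.1 (h.C_le_M ha ha1 hc.2) e he.mem)
  · obtain ⟨haH, hXH⟩ := Set.insert_subset_iff.1 hW
    set L := H ⊓ M S with hL
    have haL : a ∈ L := ⟨haH, h.S_le_M ha⟩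
    obtain ⟨P, hP⟩ := ((IsPGroup.of_card (n := 1) (by rw [Nat.card_zpowers, h.order2 ha ha1, pow_one]) :
      IsPGroup 2 (Subgroup.zpowers a)).comap_of_injective L.subtype L.subtype_injective).exists_le_sylow
    have haP : (⟨a, haL⟩ : L) ∈ (P : Subgroup L) := hP (Subgroup.mem_zpowers a)
    by_cases hfour : ∃ c : L, c ∈ (P : Subgroup L) ∧ c ≠ 1 ∧ (c : G) ≠ a
    · obtain ⟨c, hcP, hc1, hca⟩ := hfour
      obtain ⟨w, hw, hs⟩ := h.conj_two (U := (P : Subgroup L).map L.subtype)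
        ((Subgroup.map_subtype_le _).trans inf_le_right) (P.isPGroup'.map _)
      have hcS := hs c ⟨c, hcP, rfl⟩
      have haS := hs a ⟨⟨a, haL⟩, haP, rfl⟩
      refine Or.inl (h.uniq4 hH haH (Subgroup.mem_inf.1 c.2).1 (h.S_le_M ha) (Subgroup.mem_inf.1 c.2).2
        (h.order2 ha ha1) ?_ (Ne.symm hca) ?_)
      · rw [← Invol.order_conj w (c : G)]
        exact h.order2 hcS (fun e' => hc1 (Subtype.ext (conj_eq_one_iff.1 e')))
      · have hc := h.comm haS hcS
        calc a * (c : G) = w⁻¹ * ((w * a * w⁻¹) * (w * c * w⁻¹)) * w := by group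
          _ = _ := by rw [hc]; group
    · push_neg at hfour
      haveI hcy : IsCyclic (P : Subgroup L) := by
        refine ⟨⟨⟨⟨a, haL⟩, haP⟩, fun c => ?_⟩⟩
        by_cases hc1 : (c : L) = 1
        · exact ⟨0, Subtype.ext (by simpa using hc1.symm)⟩
        · exact ⟨1, Subtype.ext (Subtype.ext (by simpa using (hfour c c.2 hc1).symm))⟩
      have hnpc := HSub.hasNormalPComplement_of_cyclic P (fun r hr _ => hr.two_le)
      set K := core' 2 L with hK
      have hodd : ∀ g : G, g ∈ L → Odd (orderOf g) → g ∈ K := fun g hg ho => by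
        refine ⟨⟨g, hg⟩, ?_, rfl⟩
        rw [SetLike.mem_coe, PBasic.pPrimeCore_eq_pResidual hnpc]
        exact PBasic.mem_pResidual (by rw [Subgroup.orderOf_mk]; exact Nat.coprime_two_right.2 ho)
      have hqodd : ∀ R : Subgroup G, R ≤ L → IsPGroup q R → R ≤ K := by
        intro R hR hRp g hg
        refine hodd g (hR hg) ?_
        obtain ⟨k, hk⟩ := IsPGroup.iff_orderOf.1 hRp ⟨g, hg⟩
        rw [Subgroup.orderOf_mk] at hk
        rw [hk]
        exact (hq.out.odd_of_ne_two (by have := mv.five_le h; omega)).pow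
      have hXK : X ≤ K := hqodd X (le_inf hXH (mv.X_le_M h)) mv.pgroup
      have hcop : (Nat.card (Subgroup.zpowers a)).Coprime (Nat.card K) := by
        rw [Nat.card_zpowers, h.order2 ha ha1]
        exact (Nat.Prime.coprime_iff_not_dvd Nat.prime_two).2 (not_dvd_core' L)
      have hKsol : Group.IsSolvable (Subgroup.zpowers a) ∨ Group.IsSolvable K := Or.inr
        (haveI := h.solv H hH
         Group.isSolvable_of_isSolvable_injective (f := Subgroup.inclusion ((core'_le L).trans inf_le_left))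
          (Subgroup.inclusion_injective _))
      obtain ⟨T, hXT, hTn⟩ := CoprimeAct.exists_invariant_sylow_ge
        (Subgroup.zpowers_le.2 (le_normalizer_core' L haL) : Subgroup.zpowers a ≤ Subgroup.normalizer (K : Set G))
        hcop hKsol hXK mv.pgroup (Subgroup.zpowers_le.2 (mv.normal (h.S_le_M ha)))
      refine Or.inr ⟨_, (Subgroup.map_subtype_le _).trans (core'_le _), T.isPGroup'.map _, ?_,
        Set.insert_subset_iff.2 ⟨hTn (Subgroup.mem_zpowers a), fun x hx => Subgroup.le_normalizer (hXT hx)⟩,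
        fun R hR hRp => ?_⟩
      · exact fun e' => he.ne_one (Subgroup.mem_bot.1 (e' ▸ hXT he.mem))
      · have hRK := hqodd R hR hRp
        obtain ⟨T2, hT2⟩ := (hRp.comap_of_injective K.subtype K.subtype_injective).exists_le_sylow
        rw [Subgroup.card_map_of_injective K.subtype_injective, ← Nat.card_congr (Sylow.equiv T2 T).toEquiv,
          ← Nat.card_congr (Subgroup.subgroupOfEquivOfLe hRK).toEquiv]
        exact Subgroup.card_le_of_le hT2

theorem split_ne_one {e1 e2 : G} (he1 : Eig S X e1) (he2 : Eig S X e2) (hk : ker' S e1 ≠ ker' S e2) {i j : ℤ}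
    (hne : e1 ^ i * e2 ^ j ≠ 1) : ∃ s ∈ (S : Subgroup G), s * (e1 ^ i * e2 ^ j) * s ≠ e1 ^ i * e2 ^ j := by
  by_contra hcon
  push_neg at hcon
  apply hne
  have hpow : ∀ (s x : G) (k : ℤ), s ∈ (S : Subgroup G) → x ∈ X → s * x * s = x⁻¹ → s * x ^ k * s = x ^ k →
      x ^ k = 1 := by
    intro s x k hs hx h1 h2
    rw [mv.zpow_sign h hs, h1, inv_zpow] at h2
    exact eq_one_of_inv_eq (mv.odd_X h) (zpow_mem hx k) h2
  obtain ⟨s, hs, h' | h'⟩ := mv.exists_split h he1 he2 hk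
  · have h0 := hcon s hs
    rw [h.s_mul hs, mv.zpow_sign h hs, h'.1] at h0
    have hj := hpow s e2 j hs he2.mem h'.2 (mul_left_cancel h0)
    rw [hj, mul_one]
    obtain ⟨t, ht, h1⟩ := he1.moved
    have h0' := hcon t ht
    rw [hj, mul_one] at h0'
    exact hpow t e1 i ht he1.mem h1 h0'
  · have h0 := hcon s hs
    rw [h.s_mul hs, mv.zpow_sign h hs (x := e2), h'.2] at h0
    have hi := hpow s e1 i hs he1.mem h'.1 (mul_right_cancel h0)
    rw [hi, one_mul]
    obtain ⟨t, ht, h1⟩ := he2.moved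
    have h0' := hcon t ht
    rw [hi, one_mul] at h0'
    exact hpow t e2 j ht he2.mem h1 h0'

/-- Elements with cyclic commutator with X are good. -/
theorem C_le_small {z' x : G} (hz' : z' ^ q = 1) (hx : x ∈ X) (hx1 : x ≠ 1)
    (hxc : ∀ v ∈ X, ⁅x, v⁆ ∈ Subgroup.zpowers z') : C x ≤ M S := by
  by_cases habel : ∀ u ∈ X, ∀ v ∈ X, Commute u v
  · obtain ⟨a, ha, ha1, -⟩ := h.exists_three
    obtain ⟨e1, e2, ⟨E1, c1⟩, ⟨E2, c2⟩, hk⟩ := mv.lines_fixed h ha ha1
    refine mv.good_two h E1.mem E2.mem (mv.comm_lines h E1 E2 hk) E1.ne_one ?_ ?_ (C x) (h.C_ne_top hx1)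
      (mem_C.2 (habel _ E1.mem x hx).eq) (mem_C.2 (habel _ E2.mem x hx).eq)
    · intro hmem
      obtain ⟨k, hk'⟩ := Subgroup.mem_zpowers_iff.1 hmem
      have := (mv.pair h E1 E2 hk (i := k) (j := -1) (by rw [hk', zpow_neg, zpow_one, mul_inv_cancel])).2
      rw [zpow_neg, zpow_one, inv_eq_one] at this
      exact E2.ne_one this
    · intro g hg hg1
      obtain ⟨i, j, rfl⟩ := mem_pair (mv.comm_lines h E1 E2 hk) hg
      refine mv.C_le_abelian h habel ha ha1 (mul_mem (zpow_mem E1.mem i) (zpow_mem E2.mem j)) hg1 ?_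
      have k1 : Commute a e1 := mem_C.1 c1
      have k2 : Commute a e2 := mem_C.1 c2
      exact mem_C.2 ((k1.zpow_right i).mul_right (k2.zpow_right j)).eq
  · push_neg at habel
    obtain ⟨u, hu, v, hv, huv⟩ := habel
    set z := ⁅u, v⁆ with hz
    have hzX : z ∈ X := mul_mem (mul_mem (mul_mem hu hv) (inv_mem hu)) (inv_mem hv)
    have hz1 : z ≠ 1 := fun e => huv (commutatorElement_eq_one_iff_commute.1 e)
    have hzc : ∀ y ∈ X, Commute z y := fun y hy => mv.cen u hu v hv y hy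
    have hzS : ∀ s ∈ (S : Subgroup G), Commute s z := fun s hs => mv.fix_comm u hu v hv s hs
    have hnot : ∀ y ∈ X, (∃ s ∈ (S : Subgroup G), s * y * s ≠ y) → y ∉ Subgroup.zpowers z := by
      rintro y - ⟨s, hs, hne⟩ hmem
      obtain ⟨k, rfl⟩ := Subgroup.mem_zpowers_iff.1 hmem
      exact hne (by rw [((hzS s hs).zpow_right k).eq, mul_assoc, h.exp s hs, mul_one])
    have goodE : ∀ e : G, Eig S X e → ∀ H : Subgroup G, H ≠ ⊤ → z ∈ H → e ∈ H → H ≤ M S := by
      intro e he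
      refine mv.good_two h hzX he.mem (hzc e he.mem) hz1 (hnot e he.mem ?_) ?_
      · obtain ⟨s, hs, e'⟩ := he.moved
        exact ⟨s, hs, e'.trans_ne (mv.ne_inv h he.mem he.ne_one)⟩
      · intro g hg hg1
        obtain ⟨b1, b2, ⟨h1, n1, c1⟩, ⟨h2, n2, c2⟩, hb⟩ := mv.exists_in h he
        obtain ⟨i, j, rfl⟩ := mem_pair (hzc e he.mem) hg
        have hC : ∀ b ∈ (S : Subgroup G), b ∈ C e → b ∈ C (z ^ i * e ^ j) := fun b hb hbe => by
          have k2 : Commute b e := mem_C.1 hbe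
          exact mem_C.2 (((hzS b hb).zpow_right i).mul_right (k2.zpow_right j)).eq
        exact h.uniq4 (h.C_ne_top hg1) (hC b1 h1 c1) (hC b2 h2 c2) (h.S_le_M h1) (h.S_le_M h2)
          (h.order2 h1 n1) (h.order2 h2 n2) hb (h.comm h1 h2)
    obtain ⟨a, ha, ha1, -⟩ := h.exists_three
    obtain ⟨e1, e2, ⟨E1, -⟩, ⟨E2, -⟩, hk⟩ := mv.lines_fixed h ha ha1
    have hc12 := mv.comm_lines h E1 E2 hk
    -- pigeonhole
    obtain ⟨i, j, hij, hxy⟩ : ∃ i j : ℤ, e1 ^ i * e2 ^ j ≠ 1 ∧ Commute x (e1 ^ i * e2 ^ j) := by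
      let f : Fin q × Fin q → Subgroup.zpowers z' := fun p =>
        ⟨⁅x, e1 ^ (p.1.1 : ℤ) * e2 ^ (p.2.1 : ℤ)⁆, hxc _ (mul_mem (zpow_mem E1.mem _) (zpow_mem E2.mem _))⟩
      have hninj : ¬ Function.Injective f := fun hf => by
        have h1 := Nat.card_le_card_of_injective f hf
        rw [Nat.card_prod, Nat.card_fin, Nat.card_zpowers] at h1
        have h2 := orderOf_le_of_pow_eq_one hq.out.pos hz'
        have h3 := hq.out.two_le
        nlinarith
      rw [Function.not_injective_iff] at hninj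
      obtain ⟨⟨i, j⟩, ⟨i', j'⟩, hf, hne⟩ := hninj
      refine ⟨(i.1 : ℤ) - i'.1, (j.1 : ℤ) - j'.1, fun e => hne ?_, ?_⟩
      · obtain ⟨z1, z2⟩ := mv.pair h E1 E2 hk e
        have key : ∀ {e : G}, Eig S X e → ∀ i i' : Fin q, e ^ ((i.1 : ℤ) - i'.1) = 1 → i = i' := by
          intro e he i i' hz
          rw [← orderOf_dvd_iff_zpow_eq_one, mv.eig_order h he] at hz
          have hlt : ((i.1 : ℤ) - i'.1).natAbs < q := by omega
          have := Int.eq_zero_of_dvd_of_natAbs_lt_natAbs hz (by simpa using hlt)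
          exact Fin.ext (by omega)
        rw [key E1 i i' z1, key E2 j j' z2]
      · have hf' : ⁅x, e1 ^ (i.1 : ℤ) * e2 ^ (j.1 : ℤ)⁆ = ⁅x, e1 ^ (i'.1 : ℤ) * e2 ^ (j'.1 : ℤ)⁆ :=
          congrArg Subtype.val hf
        set w := e1 ^ (i.1 : ℤ) * e2 ^ (j.1 : ℤ) with hw
        set w' := e1 ^ (i'.1 : ℤ) * e2 ^ (j'.1 : ℤ) with hw'
        have hd : e1 ^ ((i.1 : ℤ) - i'.1) * e2 ^ ((j.1 : ℤ) - j'.1) = w'⁻¹ * w := by
          have r := (hc12.zpow_zpow ((i.1 : ℤ) - i'.1) (-(j'.1 : ℤ))).eq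
          calc e1 ^ ((i.1 : ℤ) - i'.1) * e2 ^ ((j.1 : ℤ) - j'.1)
              = e1 ^ ((i.1 : ℤ) - i'.1) * e2 ^ (-(j'.1 : ℤ)) * e2 ^ (j.1 : ℤ) := by group
            _ = e2 ^ (-(j'.1 : ℤ)) * e1 ^ ((i.1 : ℤ) - i'.1) * e2 ^ (j.1 : ℤ) := by rw [r]
            _ = _ := by rw [hw, hw']; group
        rw [hd]
        have hww : w' * w = w * w' := by
          have a1 : Commute e1 w := ((Commute.refl e1).zpow_right _).mul_right (hc12.zpow_right _)
          have a2 : Commute e2 w := (hc12.symm.zpow_right _).mul_right ((Commute.refl e2).zpow_right _)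
          exact ((a1.zpow_left _).mul_left (a2.zpow_left _)).eq
        rw [commutatorElement_def, commutatorElement_def] at hf'
        have hp : (x * w' * x⁻¹)⁻¹ * (x * w * x⁻¹) = w'⁻¹ * w := by
          have e1' : x * w * x⁻¹ = (x * w' * x⁻¹ * w'⁻¹) * w := by rw [← hf']; group
          rw [e1']; group
        have hp' : x * (w'⁻¹ * w) * x⁻¹ = w'⁻¹ * w := by
          calc x * (w'⁻¹ * w) * x⁻¹ = (x * w' * x⁻¹)⁻¹ * (x * w * x⁻¹) := by group
            _ = _ := hp
        exact mul_inv_eq_iff_eq_mul.1 hp'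
    set y := e1 ^ i * e2 ^ j with hy
    have hyX : y ∈ X := mul_mem (zpow_mem E1.mem i) (zpow_mem E2.mem j)
    have hye : Commute y e1 := (((Commute.refl e1).zpow_right i).mul_right (hc12.zpow_right j)).symm
    refine mv.good_two h hzX hyX (hzc y hyX) hz1 (hnot y hyX (mv.split_ne_one h E1 E2 hk hij)) ?_
      (C x) (h.C_ne_top hx1) (mem_C.2 (hzc x hx).eq) (mem_C.2 hxy.eq.symm)
    intro g hg hg1
    obtain ⟨k, l, rfl⟩ := mem_pair (hzc y hyX) hg
    refine goodE e1 E1 _ (h.C_ne_top hg1) (mem_C.2 ?_) (mem_C.2 ?_)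
    · exact (((Commute.refl z).zpow_right k).mul_right ((hzc y hyX).zpow_right l)).eq
    · exact (((hzc e1 E1.mem).symm.zpow_right k).mul_right (hye.symm.zpow_right l)).eq

/-- A normal pair under a q-subgroup of M. -/
theorem exists_U {T : Subgroup G} (hTM : T ≤ M S) (hT : IsPGroup q T) :
    ∃ z x : G, z ∈ X ∧ x ∈ X ∧ z ≠ 1 ∧ x ∉ Subgroup.zpowers z ∧ Commute z x ∧
      (∀ t ∈ T, Commute z t) ∧ (∀ t ∈ T, ⁅x, t⁆ ∈ Subgroup.zpowers z) ∧
      ∀ H : Subgroup G, H ≠ ⊤ → z ∈ H → x ∈ H → H ≤ M S := by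
  obtain ⟨Q, hQ⟩ := (hT.comap_of_injective (M S).subtype (M S).subtype_injective).exists_le_sylow
  set P := (Q : Subgroup (M S)).map (M S).subtype with hP
  have hPp : IsPGroup q P := Q.isPGroup'.map _
  have hPM : P ≤ M S := Subgroup.map_subtype_le _
  have hTP : T ≤ P := fun t ht => ⟨⟨t, hTM ht⟩, hQ ht, rfl⟩
  haveI : (X.subgroupOf (M S)).Normal :=
    (Subgroup.normal_subgroupOf_iff_le_normalizer (mv.X_le_M h)).2 mv.normal
  have hXQ : X.subgroupOf (M S) ≤ (Q : Subgroup (M S)) := by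
    have hh := (Q.is_maximal' (IsPGroup.to_sup_of_normal_right Q.isPGroup'
      (mv.pgroup.comap_of_injective _ (M S).subtype_injective) (K := X.subgroupOf (M S))) le_sup_left)
    exact le_sup_right.trans hh.le
  have hXP : X ≤ P := fun x hx => ⟨⟨x, mv.X_le_M h hx⟩, hXQ hx, rfl⟩
  set N := X.subgroupOf P with hN
  haveI hNn : N.Normal := (Subgroup.normal_subgroupOf_iff_le_normalizer hXP).2 (hPM.trans mv.normal)
  haveI : Group.IsNilpotent P := hPp.isNilpotent
  obtain ⟨e0, he0⟩ := mv.exists_eig h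
  have hN1 : N ≠ ⊥ := fun e => he0.ne_one <| by
    have hh := (e ▸ (show (⟨e0, hXP he0.mem⟩ : P) ∈ N from he0.mem) : (⟨e0, hXP he0.mem⟩ : P) ∈ (⊥ : Subgroup P))
    exact congrArg Subtype.val (Subgroup.mem_bot.1 hh)
  obtain ⟨z, hz, hz1⟩ : ∃ z : P, z ∈ N ⊓ Subgroup.center P ∧ z ≠ 1 := by
    obtain ⟨z, hz⟩ := Subgroup.ne_bot_iff_exists_ne_one.1 (SolvStruct.inf_center_ne_bot hN1)
    exact ⟨(z : P), z.2, fun e => hz (Subtype.ext e)⟩
  set Z := Subgroup.zpowers z with hZ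
  haveI : Z.Normal := ⟨fun n hn g => by
    have hc : n ∈ Subgroup.center P := (Subgroup.zpowers_le.2 hz.2) hn
    rwa [Subgroup.mem_center_iff.1 hc g, mul_inv_cancel_right]⟩
  have hzX : (z : G) ∈ X := hz.1
  have hz1' : (z : G) ≠ 1 := fun e => hz1 (Subtype.ext e)
  have hzc : ∀ p ∈ P, Commute (z : G) p := fun p hp =>
    (congrArg Subtype.val (Subgroup.mem_center_iff.1 hz.2 ⟨p, hp⟩)).symm
  set f := QuotientGroup.mk' Z with hf
  haveI : (N.map f).Normal := hNn.map f (QuotientGroup.mk'_surjective Z)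
  haveI : Group.IsNilpotent (P ⧸ Z) := (hPp.to_quotient Z).isNilpotent
  have hNZ : N.map f ≠ ⊥ := by
    intro e
    rw [Subgroup.map_eq_bot_iff, hf, QuotientGroup.ker_mk'] at e
    obtain ⟨a, ha, ha1, -⟩ := h.exists_three
    obtain ⟨e1, e2, ⟨E1, -⟩, ⟨E2, -⟩, hk⟩ := mv.lines_fixed h ha ha1
    obtain ⟨k1, hk1⟩ := Subgroup.mem_zpowers_iff.1 (e (show (⟨e1, hXP E1.mem⟩ : P) ∈ N from E1.mem))
    obtain ⟨k2, hk2⟩ := Subgroup.mem_zpowers_iff.1 (e (show (⟨e2, hXP E2.mem⟩ : P) ∈ N from E2.mem))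
    have q1 : (z : G) ^ k1 = e1 := by simpa using congrArg Subtype.val hk1
    have q2 : (z : G) ^ k2 = e2 := by simpa using congrArg Subtype.val hk2
    have hord : orderOf (z : G) = q := orderOf_eq_prime (mv.exp _ hzX) hz1'
    have hek : e1 ^ k2 * e2 ^ (-k1) = 1 := by rw [← q1, ← q2, ← zpow_mul, ← zpow_mul, ← zpow_add]; simp [mul_comm]
    have h0 := (mv.pair h E1 E2 hk hek).1
    rw [← orderOf_dvd_iff_zpow_eq_one, mv.eig_order h E1, ← hord, orderOf_dvd_iff_zpow_eq_one, q2] at h0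
    exact E2.ne_one h0
  obtain ⟨yb, hyb, hyb1⟩ : ∃ z : P ⧸ Z, z ∈ N.map f ⊓ Subgroup.center (P ⧸ Z) ∧ z ≠ 1 := by
    obtain ⟨z, hz⟩ := Subgroup.ne_bot_iff_exists_ne_one.1 (SolvStruct.inf_center_ne_bot hNZ)
    exact ⟨(z : P ⧸ Z), z.2, fun e => hz (Subtype.ext e)⟩
  obtain ⟨x, hxN, rfl⟩ := hyb.1
  have hxX : (x : G) ∈ X := hxN
  have hxz : x ∉ Z := fun e => hyb1 ((QuotientGroup.eq_one_iff x).2 e)
  have hxcomm : ∀ p ∈ P, ⁅(x : G), p⁆ ∈ Subgroup.zpowers (z : G) := by
    intro p hp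
    have h1 : f ⁅x, (⟨p, hp⟩ : P)⁆ = 1 := by
      rw [map_commutatorElement, commutatorElement_eq_one_iff_commute]
      exact (Subgroup.mem_center_iff.1 hyb.2 _).symm
    obtain ⟨k, hk⟩ := Subgroup.mem_zpowers_iff.1 ((QuotientGroup.eq_one_iff _).1 h1)
    exact ⟨k, by simpa [commutatorElement_def] using congrArg Subtype.val hk⟩
  have hxnz : (x : G) ∉ Subgroup.zpowers (z : G) := by
    rintro ⟨k, hk⟩
    exact hxz ⟨k, Subtype.ext (by simpa using hk)⟩
  refine ⟨z, x, hzX, hxX, hz1', hxnz, hzc _ (hXP hxX), fun t ht => hzc t (hTP ht),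
    fun t ht => hxcomm t (hTP ht), ?_⟩
  refine mv.good_two h hzX hxX (hzc _ (hXP hxX)) hz1' hxnz ?_
  intro g hg hg1
  have hgX : g ∈ X := (Subgroup.closure_le _).2 (by rintro u (rfl | rfl); exacts [hzX, hxX]) hg
  obtain ⟨i, j, rfl⟩ := mem_pair (hzc _ (hXP hxX)) hg
  refine mv.C_le_small h (mv.exp _ hzX) hgX hg1 fun v hv => ?_
  have hzv : ∀ m : ℤ, Commute ((z : G) ^ m) v := fun m => (hzc v (hXP hv)).zpow_left m
  have hxp : (x : G) ^ j ∈ X := zpow_mem hxX j
  have h1 : ⁅(z : G) ^ i * (x : G) ^ j, v⁆ = ⁅(x : G) ^ j, v⁆ := by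
    have hcX : ⁅(x : G) ^ j, v⁆ ∈ X := mul_mem (mul_mem (mul_mem hxp hv) (inv_mem hxp)) (inv_mem hv)
    rw [commutatorElement_mul_left_eq_conj_mul, commutatorElement_eq_one_iff_commute.2 (hzv i), mul_one,
      ((hzc _ (hXP hcX)).zpow_left i).eq, mul_inv_cancel_right]
  rw [h1]
  have h2 : f ⁅(⟨(x : G), x.2⟩ : P) ^ j, (⟨v, hXP hv⟩ : P)⁆ = 1 := by
    rw [map_commutatorElement, map_zpow, commutatorElement_eq_one_iff_commute]
    exact Commute.zpow_left (Subgroup.mem_center_iff.1 hyb.2 _).symm j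
  obtain ⟨k, hk⟩ := Subgroup.mem_zpowers_iff.1 ((QuotientGroup.eq_one_iff _).1 h2)
  exact ⟨k, by simpa [commutatorElement_def] using congrArg Subtype.val hk⟩

theorem card_fix_pair {T : Subgroup G} {z x : G} (hz : z ^ q = 1)
    (hc : ∀ t ∈ T, ⁅x, t⁆ ∈ Subgroup.zpowers z) : Nat.card T ≤ q * Nat.card ↥(T ⊓ C x) := by
  rw [← card_conj T x]
  refine Nat.mul_le_mul_right _ ?_
  have hf : ∀ y : {y : G // ∃ d ∈ T, d * x * d⁻¹ = y}, (y : G) * x⁻¹ ∈ Subgroup.zpowers z := by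
    rintro ⟨y, d, hd, rfl⟩
    have := inv_mem (hc d hd)
    rwa [commutatorElement_inv, commutatorElement_def] at this
  have h1 := Nat.card_le_card_of_injective
    (fun y : {y : G // ∃ d ∈ T, d * x * d⁻¹ = y} => (⟨(y : G) * x⁻¹, hf y⟩ : Subgroup.zpowers z))
    (fun y y' e => Subtype.ext (mul_right_cancel (congrArg Subtype.val e)))
  rw [Nat.card_zpowers] at h1
  exact h1.trans (orderOf_le_of_pow_eq_one hq.out.pos hz)

theorem false_of_mov : False := by
  obtain ⟨a, ha, ha1, -⟩ := h.exists_three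
  have haM := h.S_le_M ha
  obtain ⟨u, hu, huM⟩ : ∃ u : G, orderOf u = 2 ∧ u ∉ M S := by
    by_contra hcon
    push_neg at hcon
    haveI := h.simple
    rcases (Subgroup.normalClosure_normal (s := ({a} : Set G))).eq_bot_or_eq_top with e | e
    · exact ha1 (Subgroup.mem_bot.1 (e ▸ Subgroup.subset_normalClosure (Set.mem_singleton a)))
    · refine h.M_ne_top (top_le_iff.1 (e ▸ ?_))
      refine (Subgroup.closure_le _).2 fun y hy => ?_
      obtain ⟨b, hb, hby⟩ := Group.mem_conjugatesOfSet_iff.1 hy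
      obtain ⟨g, rfl⟩ := isConj_iff.1 hby
      rw [Set.mem_singleton_iff] at hb
      subst hb
      exact hcon _ (by rw [Invol.order_conj, h.order2 ha ha1])
  have huu : u⁻¹ = u := inv_eq_of_mul_eq_one_right (by rw [← pow_two, ← hu, pow_orderOf_eq_one])
  set D := M S ⊓ (M S).map (MulAut.conj u).toMonoidHom with hD
  -- q^3 divides |D|
  set nI := Nat.card {x : G // ∃ d ∈ M S, d * a * d⁻¹ = x} with hnI
  have hsame : nI = Nat.card {x : G // ∃ d ∈ D, d * a * d⁻¹ = x} := by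
    refine Nat.card_congr (Equiv.subtypeEquivRight fun x => ⟨?_, fun ⟨d, hd, e⟩ => ⟨d, hd.1, e⟩⟩)
    rintro ⟨d, hd, rfl⟩
    exact (S1225.result (M S) h.M_se u hu huM a (d * a * d⁻¹) (h.order2 ha ha1) haM
      (by rw [Invol.order_conj, h.order2 ha ha1]) (mul_mem (mul_mem hd haM) (inv_mem hd))).1
  have hdD : nI ∣ Nat.card D := hsame ▸ Dvd.intro _ (card_conj D a)
  have hcube : q ^ 3 ∣ nI := by
    have hCa : C a ≤ M S := h.C_le_M ha ha1
    have h1 : Nat.card ↥(X ⊔ C a) * Nat.card ↥(X ⊓ C a) = Nat.card X * Nat.card (C a) := by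
      have e := WielandtOrder.card_mul_set X (C a)
      rwa [← Subgroup.coe_mul_of_right_le_normalizer_left _ _ (hCa.trans mv.normal)] at e
    have h2 := card_conj X a
    set c := Nat.card {x : G // ∃ d ∈ X, d * a * d⁻¹ = x} with hc
    have h3 : Nat.card ↥(X ⊔ C a) = c * Nat.card (C a) := by
      refine Nat.eq_of_mul_eq_mul_right (Nat.card_pos (α := ↥(X ⊓ C a))) ?_
      rw [h1, ← h2]; ring
    have h4 : nI * Nat.card (C a) = Nat.card (M S) := by
      have e := card_conj (M S) a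
      rwa [inf_eq_right.2 hCa] at e
    have h5 : c * Nat.card (C a) ∣ nI * Nat.card (C a) := by
      rw [h4, ← h3]
      exact Subgroup.card_dvd_of_le (sup_le (mv.X_le_M h) hCa)
    exact (mv.cube_dvd h ha ha1).trans (Nat.dvd_of_mul_dvd_mul_right Nat.card_pos h5)
  obtain ⟨T0, hT0⟩ := Sylow.exists_subgroup_card_pow_prime (G := D) q (hcube.trans hdD)
  set T := T0.map D.subtype with hT
  have hTc : Nat.card T = q ^ 3 := by rw [hT, Subgroup.card_map_of_injective D.subtype_injective, hT0]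
  have hTD : T ≤ D := Subgroup.map_subtype_le _
  have hTp : IsPGroup q T := IsPGroup.of_card hTc
  set T' := T.map (MulAut.conj u).toMonoidHom with hT'
  have hT'M : T' ≤ M S := by
    rintro _ ⟨t, ht, rfl⟩
    obtain ⟨m, hm, e⟩ := (hTD ht).2
    rw [← e]
    simpa [huu, mul_assoc, ← mul_assoc u u, (by rw [← pow_two, ← hu, pow_orderOf_eq_one] : u * u = 1)] using hm
  obtain ⟨z1, x1, hz1X, -, -, -, -, hz1T, hx1T, good1⟩ := mv.exists_U h (hTD.trans inf_le_left) hTp
  obtain ⟨z2, x2, hz2X, hx2X, -, -, -, hz2T, hx2T, good2⟩ := mv.exists_U h hT'M (hTp.map _)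
  have hc1 := mv.card_fix_pair h (mv.exp z1 hz1X) hx1T
  have hc2 := mv.card_fix_pair h (mv.exp z2 hz2X) hx2T
  have hT'c : Nat.card T' = q ^ 3 := by
    rw [hT', Subgroup.card_map_of_injective (K := T) (f := (MulAut.conj u).toMonoidHom) (MulAut.conj u).injective, hTc]
  set A := T ⊓ C x1 with hA
  set B := (T' ⊓ C x2).map (MulAut.conj u).toMonoidHom with hB
  have hBT : B ≤ T := by
    rintro _ ⟨y, ⟨⟨t, ht, rfl⟩, -⟩, rfl⟩
    simpa [huu, mul_assoc, ← mul_assoc u u, (by rw [← pow_two, ← hu, pow_orderOf_eq_one] : u * u = 1)] using ht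
  have hBc : Nat.card B = Nat.card ↥(T' ⊓ C x2) :=
    Subgroup.card_map_of_injective (K := T' ⊓ C x2) (f := (MulAut.conj u).toMonoidHom) (MulAut.conj u).injective
  have hbig : 1 < Nat.card ↥(A ⊓ B) := by
    by_contra hle
    have h1 := WielandtOrder.card_mul_set A B
    have h2 : Nat.card ↥((A : Set G) * (B : Set G)) ≤ Nat.card T := by
      refine Nat.card_mono (Set.toFinite _) ?_
      rintro _ ⟨p, hp, r, hr, rfl⟩
      exact mul_mem hp.1 (hBT hr)
    have h3 : Nat.card ↥(A ⊓ B) = 1 := le_antisymm (not_lt.1 hle) Nat.card_pos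
    rw [h3, mul_one] at h1
    rw [hTc] at hc1 h2
    rw [hT'c, ← hBc] at hc2
    rw [h1] at h2
    have hA2 : q ^ 2 ≤ Nat.card A := Nat.le_of_mul_le_mul_left (by linarith [hc1, pow_succ' q 2]) hq.out.pos
    have hB2 : q ^ 2 ≤ Nat.card B := Nat.le_of_mul_le_mul_left (by linarith [hc2, pow_succ' q 2]) hq.out.pos
    have h4 := Nat.mul_le_mul hA2 hB2
    have h5 : q ^ 3 < q ^ 2 * q ^ 2 := by
      rw [← pow_add]; exact Nat.pow_lt_pow_right hq.out.one_lt (by norm_num)
    omega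
  obtain ⟨⟨t, ht⟩, ht1⟩ : ∃ t : ↥(A ⊓ B), t ≠ 1 := by
    haveI := Finite.one_lt_card_iff_nontrivial.1 hbig
    exact exists_ne 1
  have ht1' : t ≠ 1 := fun e => ht1 (Subtype.ext e)
  obtain ⟨htA, htB⟩ := Subgroup.mem_inf.1 ht
  have hCt : C t ≤ M S := good1 (C t) (h.C_ne_top ht1') (mem_C.2 (hz1T t htA.1).eq)
    (mem_C.2 (mem_C.1 htA.2).symm)
  obtain ⟨y, hy, hyt⟩ := htB
  have huu' : u * u = 1 := by rw [← pow_two, ← hu, pow_orderOf_eq_one]
  set M' := (M S).map (MulAut.conj u).toMonoidHom with hM'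
  have hin : ∀ g : G, Commute g y → g ∈ M' := by
    intro g hg
    have h1 : u * g * u⁻¹ ∈ C t := by
      rw [mem_C, ← hyt]
      simp only [MulEquiv.coe_toMonoidHom, MulAut.conj_apply]
      calc u * g * u⁻¹ * (u * y * u⁻¹) = u * (g * y) * u⁻¹ := by group
        _ = _ := by rw [hg.eq]; group
    refine ⟨u * g * u⁻¹, hCt h1, ?_⟩
    simp only [MulEquiv.coe_toMonoidHom, MulAut.conj_apply, huu]
    calc u * (u * g * u) * u = (u * u) * g * (u * u) := by group
      _ = g := by rw [huu']; group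
  have hM'ne : M' ≠ ⊤ := fun e => h.M_ne_top (Subgroup.map_injective (f := (MulAut.conj u).toMonoidHom)
    (MulAut.conj u).injective (by
      rw [← hM', e]
      exact (Subgroup.map_top_of_surjective _ (MulAut.conj u).surjective).symm))
  have hle : M' ≤ M S := good2 M' hM'ne (hin z2 (hz2T y hy.1)) (hin x2 (mem_C.1 hy.2).symm)
  exact huM (Invol.se_mem_of_conj h.M_se (h.order2 ha ha1) haM (hle ⟨a, haM, by simp [mul_assoc]⟩))

end Mov

/-- S centralises W. -/
theorem Hyp.central {S : Sylow 2 G} (h : Hyp S) : ∀ w ∈ W S, ∀ s ∈ (S : Subgroup G), s * w = w * s := by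
  intro w hw s hs
  by_contra hne
  obtain ⟨q, hq, -, X, mv⟩ := h.exists_mov ⟨w, hw, s, hs, hne⟩
  haveI := Fact.mk hq
  exact mv.false_of_mov h

end Cfsg.Agent.EightSylow
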