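import Cfsg.Agent.Lib.PLocal.ZJStable
import Cfsg.Agent.Lib.Solvable.ScnCentralizer
import Cfsg.Agent.Lib.Solvable.Fitting

/-!
The functor Z(J(·)) at a prime at least 5: in a solvable subgroup a normaliser factorisation.
-/

set_option autoImplicit false
set_option linter.style.haveILetI false

namespace Cfsg.Agent.EightSylow

variable {G : Type*} [Group G] [Finite G] {q : ℕ} [hq : Fact q.Prime]

/-- Z(J(T)). -/
def fn (q : ℕ) (T : Subgroup G) : Subgroup G := ZJ.zJ q False T

omit hq in
theorem fn_le (T : Subgroup G) : fn q T ≤ T := ZJ.zJ_le T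

omit hq in
theorem normalizer_le_fn (T : Subgroup G) :
    Subgroup.normalizer (T : Set G) ≤ Subgroup.normalizer (fn q T : Set G) :=
  ZJ.normalizer_le_normalizer_zJ T

theorem fn_ne_bot {T : Subgroup G} (hT : IsPGroup q T) (h : T ≠ ⊥) : fn q T ≠ ⊥ := by
  rw [fn, ← ZJ.zCore_eq_zJ not_false]
  exact ZJ.zCore_ne_bot hT h

theorem sup_normalizer_eq_top [Group.IsSolvable G] (h5 : 5 ≤ q) (P : Sylow q G) :
    Cfsg.pPrimeCore q G ⊔ Subgroup.normalizer (fn q (P : Subgroup G) : Set G) = ⊤ := by
  haveI : (Cfsg.pPrimeCore q G).Normal := FittingCores.pPrimeCore_normal q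
  set f := QuotientGroup.mk' (Cfsg.pPrimeCore q G) with hf
  have hfs : Function.Surjective f := QuotientGroup.mk'_surjective _
  have hker : (Nat.card f.ker).Coprime q := by
    rw [hf, QuotientGroup.ker_mk']; exact PBasic.pPrimeCore_coprime q G
  have hinj : Set.InjOn f (P : Subgroup G) := CoprimeQuotient.injOn_of_coprime_ker f hker P.isPGroup'
  have hc : Subgroup.centralizer (Cfsg.pCore q (G ⧸ Cfsg.pPrimeCore q G) : Set _) ≤
      Cfsg.pCore q (G ⧸ Cfsg.pPrimeCore q G) :=
    FittingCores.centralizer_pCore_le hq.out (FittingCores.pPrimeCore_quotient_eq_bot q _ rfl)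
  have hn := ZJ.zJ_normal (p := q) (by omega) (ScnCentralizer.isQuad_of_solvable h5) hc
    (P.mapSurjective hfs) False
  rw [Sylow.coe_mapSurjective, ← ZJ.zJ_map f hinj] at hn
  have h1 : (Subgroup.normalizer (fn q (P : Subgroup G) : Set G)).map f = ⊤ := by
    rw [fn, ← CoprimeQuotient.normalizer_map f hfs hker (P.isPGroup'.to_le (ZJ.zJ_le _)),
      Subgroup.normalizer_eq_top_iff]
    exact hn
  have h2 := congrArg (Subgroup.comap f) h1
  rw [Subgroup.comap_map_eq, Subgroup.comap_top, hf, QuotientGroup.ker_mk', sup_comm] at h2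
  exact h2

/-- The q-prime core of a subgroup, inside the group. -/
def core' (q : ℕ) (H : Subgroup G) : Subgroup G := (Cfsg.pPrimeCore q H).map H.subtype

omit hq in
theorem core'_le (H : Subgroup G) : core' q H ≤ H := Subgroup.map_subtype_le _

omit hq in
theorem le_normalizer_core' (H : Subgroup G) : H ≤ Subgroup.normalizer (core' q H : Set G) := by
  intro h hh
  haveI : (Cfsg.pPrimeCore q H).Normal := FittingCores.pPrimeCore_normal q
  rw [Subgroup.mem_normalizer_iff]
  intro x
  constructor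
  · rintro ⟨y, hy, rfl⟩
    exact ⟨(⟨h, hh⟩ : H) * y * (⟨h, hh⟩ : H)⁻¹, ‹(Cfsg.pPrimeCore q H).Normal›.conj_mem y hy _, rfl⟩
  · rintro ⟨y, hy, hyx⟩
    refine ⟨(⟨h, hh⟩ : H)⁻¹ * y * (⟨h, hh⟩ : H),
      by simpa using ‹(Cfsg.pPrimeCore q H).Normal›.conj_mem y hy (⟨h, hh⟩ : H)⁻¹, ?_⟩
    rw [map_mul, map_mul, map_inv, hyx]
    simp [mul_assoc]

theorem not_dvd_core' (H : Subgroup G) : ¬ q ∣ Nat.card (core' q H) := by
  rw [core', Subgroup.card_map_of_injective H.subtype_injective]
  intro h
  have := PBasic.pPrimeCore_coprime q H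
  exact hq.out.one_lt.ne' (Nat.eq_one_of_dvd_coprimes this h dvd_rfl)

/-- A solvable subgroup with Sylow q-subgroup T is covered by its q-prime core and the normaliser of fn T. -/
theorem le_of_core'_of_normalizer (h5 : 5 ≤ q) {H T Y : Subgroup G} (hH : Group.IsSolvable H) (hTH : T ≤ H)
    (hT : IsPGroup q T) (hmax : ∀ R : Subgroup G, R ≤ H → IsPGroup q R → T ≤ R → R = T)
    (h1 : core' q H ≤ Y) (h2 : H ⊓ Subgroup.normalizer (fn q T : Set G) ≤ Y) : H ≤ Y := by
  haveI := hH
  let T' : Sylow q H :=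
    { toSubgroup := T.subgroupOf H
      isPGroup' := hT.comap_of_injective _ H.subtype_injective
      is_maximal' := fun {R} hR hle => by
        have h : R.map H.subtype = T := hmax _ (Subgroup.map_subtype_le R) (hR.map _) (by
          rw [← Subgroup.map_subgroupOf_eq_of_le hTH]
          exact Subgroup.map_mono hle)
        rw [Subgroup.subgroupOf, ← h, Subgroup.comap_map_eq_self_of_injective H.subtype_injective] }
  have hinj : Set.InjOn H.subtype ((T' : Subgroup H) : Set H) := H.subtype_injective.injOn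
  have hmap : (fn q (T' : Subgroup H)).map H.subtype = fn q T := by
    rw [fn, ZJ.zJ_map H.subtype hinj]
    exact congrArg (ZJ.zJ q False) (Subgroup.map_subgroupOf_eq_of_le hTH)
  have h : (⊤ : Subgroup H).map H.subtype ≤ Y := by
    rw [← sup_normalizer_eq_top h5 T', Subgroup.map_sup]
    refine sup_le h1 ?_
    rintro _ ⟨x, hx, rfl⟩
    refine h2 ⟨x.2, ?_⟩
    rw [← hmap]
    exact Subgroup.le_normalizer_map H.subtype ⟨x, hx, rfl⟩
  rwa [← MonoidHom.range_eq_map, Subgroup.range_subtype] at h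

end Cfsg.Agent.EightSylow
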