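import Cfsg.Agent.Lib.EightSylow.Central
import Cfsg.Agent.Lib.OddDown.RealTwoPart
import Cfsg.Agent.Lib.OddChar.OddTheorem

/-!
A finite group with elementary Sylow 2-subgroup of order 8, order not divisible by 9 and all involution
centralisers 2-nilpotent is solvable.
-/

set_option autoImplicit false
set_option linter.style.haveILetI false
set_option linter.unusedSectionVars false

namespace Cfsg.Agent.EightSylow

universe u

theorem abelian_two {G : Type*} [Group G] [Finite G] (S : Sylow 2 G) (hexp : ∀ x ∈ (S : Subgroup G), x * x = 1)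
    {T : Subgroup G} (hT : IsPGroup 2 T) : (∀ x ∈ T, x * x = 1) ∧ ∀ x ∈ T, ∀ y ∈ T, x * y = y * x := by
  haveI : Fact (Nat.Prime 2) := ⟨Nat.prime_two⟩
  obtain ⟨Q, hQ⟩ := hT.exists_le_sylow
  have hsq : ∀ x ∈ T, x * x = 1 := fun x hx =>
    congrArg Subtype.val ((Sylow.equiv Q S).injective (by
      rw [map_mul, map_one]
      exact Subtype.ext (hexp _ ((Sylow.equiv Q S) ⟨x, hQ hx⟩).2)) : (⟨x, hQ hx⟩ : (Q : Subgroup G)) * ⟨x, hQ hx⟩ = 1)
  refine ⟨hsq, fun x hx y hy => ?_⟩
  have hinv : ∀ z ∈ T, z⁻¹ = z := fun z hz => inv_eq_of_mul_eq_one_right (hsq z hz)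
  calc x * y = (x * y)⁻¹ := (hinv _ (T.mul_mem hx hy)).symm
    _ = _ := by rw [mul_inv_rev, hinv x hx, hinv y hy]

/-- In a 2-nilpotent centraliser an element normalising a 2-subgroup centralises it. -/
theorem npc_fix {G : Type*} [Group G] [Finite G] (S : Sylow 2 G) (hexp : ∀ x ∈ (S : Subgroup G), x * x = 1)
    (hnpc : ∀ t : G, orderOf t = 2 → Cfsg.HasNormalPComplement 2 (C t))
    {v g : G} (hv : orderOf v = 2) (hg : g * v * g⁻¹ = v) {V : Subgroup G} (hV : IsPGroup 2 V) (hvV : v ∈ V)
    (hgV : g ∈ Subgroup.normalizer (V : Set G)) {x : G} (hx : x ∈ V) : g * x = x * g := by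
  haveI : Fact (Nat.Prime 2) := ⟨Nat.prime_two⟩
  have hn := hnpc v hv
  have hVC : ∀ y ∈ V, y ∈ C v := fun y hy => mem_C.2 ((abelian_two S hexp hV).2 y hy v hvV)
  set K := Cfsg.pPrimeCore 2 (C v) with hK
  haveI : K.Normal := FittingCores.pPrimeCore_normal 2
  set f := QuotientGroup.mk' K with hf
  have hQ : IsPGroup 2 (C v ⧸ K) := PBasic.quotient_pPrimeCore_isPGroup hn
  obtain ⟨P⟩ : Nonempty (Sylow 2 (C v)) := inferInstance
  have hsurj : (P : Subgroup (C v)).map f = ⊤ := by
    rw [← Sylow.coe_mapSurjective (QuotientGroup.mk'_surjective K) P]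
    exact ((P.mapSurjective (QuotientGroup.mk'_surjective K)).is_maximal' (hQ.to_subgroup ⊤) le_top).symm
  have hcomm : ∀ a b : C v ⧸ K, a * b = b * a := by
    intro a b
    obtain ⟨a', ha', rfl⟩ := (hsurj.ge (Subgroup.mem_top a))
    obtain ⟨b', hb', rfl⟩ := (hsurj.ge (Subgroup.mem_top b))
    rw [← map_mul, ← map_mul]
    congr 1
    exact Subtype.ext ((abelian_two S hexp (P.isPGroup'.map (C v).subtype)).2 _ ⟨a', ha', rfl⟩ _ ⟨b', hb', rfl⟩)
  set g' : C v := ⟨g, conj_eq_iff_mem_C.1 hg⟩ with hg'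
  set x' : C v := ⟨x, hVC x hx⟩ with hx'
  have hmem : g' * x' * g'⁻¹ * x'⁻¹ ∈ K := by
    refine (QuotientGroup.eq_one_iff _).1 ?_
    show f (g' * x' * g'⁻¹ * x'⁻¹) = 1
    simp only [map_mul, map_inv]
    rw [hcomm (f g') (f x'), mul_inv_cancel_right, mul_inv_cancel]
  have hcV : g * x * g⁻¹ * x⁻¹ ∈ V := V.mul_mem ((Subgroup.mem_normalizer_iff.1 hgV x).1 hx) (V.inv_mem hx)
  have h1 : g * x * g⁻¹ * x⁻¹ = 1 :=
    eq_one_of_odd_two (theta_not_dvd v) hV (show g * x * g⁻¹ * x⁻¹ ∈ theta v from ⟨_, hmem, rfl⟩) hcV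
  rwa [mul_inv_eq_one, mul_inv_eq_iff_eq_mul] at h1

theorem four_central {G : Type*} [Group G] [Finite G] (S : Sylow 2 G) (hc : Nat.card (S : Subgroup G) = 8)
    (hexp : ∀ x ∈ (S : Subgroup G), x * x = 1)
    (hnpc : ∀ t : G, orderOf t = 2 → Cfsg.HasNormalPComplement 2 (C t))
    (V : Subgroup G) (hV : Nat.card V = 4) :
    Subgroup.normalizer (V : Set G) ≤ Subgroup.centralizer (V : Set G) := by
  classical
  haveI : Fact (Nat.Prime 2) := ⟨Nat.prime_two⟩
  haveI : Fact (Nat.Prime 3) := ⟨Nat.prime_three⟩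
  intro g hg
  by_contra hgC
  have hVp : IsPGroup 2 V := IsPGroup.of_card (n := 2) (by rw [hV]; norm_num)
  obtain ⟨hVsq, hVc⟩ := abelian_two S hexp hVp
  have hord : ∀ x ∈ V, x ≠ 1 → orderOf x = 2 := fun x hx h1 => orderOf_eq_prime (by rw [pow_two]; exact hVsq x hx) h1
  obtain ⟨v, hv, hv1⟩ : ∃ v ∈ V, v ≠ 1 := by
    have : Nontrivial V := Finite.one_lt_card_iff_nontrivial.1 (by omega)
    obtain ⟨v, hv⟩ := exists_ne (1 : V)
    exact ⟨v, v.2, fun e => hv (Subtype.ext e)⟩
  -- an element fixing an involution of V centralises V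
  have hfix : ∀ k ∈ Subgroup.normalizer (V : Set G), ∀ y ∈ V, y ≠ 1 → k * y * k⁻¹ = y →
      k ∈ Subgroup.centralizer (V : Set G) := fun k hk y hy hy1 he =>
    Subgroup.mem_centralizer_iff.2 fun x hx => (npc_fix S hexp hnpc (hord y hy hy1) he hVp hy hk hx).symm
  have hconj : ∀ {k y : G}, k ∈ Subgroup.normalizer (V : Set G) → y ∈ V → k * y * k⁻¹ ∈ V := fun hk hy =>
    (Subgroup.mem_normalizer_iff.1 hk _).1 hy
  -- g ^ 3 centralises V
  set X := {x : V // x ≠ 1} with hX
  letI : Fintype X := Fintype.ofFinite X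
  have hXc : Fintype.card X = 3 := by
    rw [← Nat.card_eq_fintype_card]
    have := Nat.card_congr (Equiv.optionSubtypeNe (1 : V))
    rw [Finite.card_option] at this
    have h' : Nat.card X + 1 = Nat.card V := this
    omega
  let perm : ∀ k ∈ Subgroup.normalizer (V : Set G), Equiv.Perm X := fun k hk =>
    { toFun := fun x => ⟨⟨k * x.1 * k⁻¹, hconj hk x.1.2⟩, fun e => x.2 (Subtype.ext (conj_eq_one_iff.1 (congrArg Subtype.val e)))⟩
      invFun := fun x => ⟨⟨k⁻¹ * x.1 * k, by simpa using hconj (inv_mem hk) x.1.2⟩,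
        fun e => x.2 (Subtype.ext (conj_eq_one_iff.1 (show k⁻¹ * x.1 * k⁻¹⁻¹ = 1 by simpa using congrArg Subtype.val e)))⟩
      left_inv := fun x => Subtype.ext (Subtype.ext (by simp [mul_assoc]))
      right_inv := fun x => Subtype.ext (Subtype.ext (by simp [mul_assoc])) }
  have hg3 : g * g * g ∈ Subgroup.centralizer (V : Set G) := by
    have hg2N : g * g ∈ Subgroup.normalizer (V : Set G) := mul_mem hg hg
    by_cases h2 : g * g ∈ Subgroup.centralizer (V : Set G)
    · -- g acts as an involution on three points, so fixes one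
      exfalso
      apply hgC
      haveI : Fact (Nat.Prime 2) := ⟨Nat.prime_two⟩
      obtain ⟨x, hx⟩ := Equiv.Perm.exists_fixed_point_of_prime (p := 2) (n := 1) (by rw [hXc]; norm_num)
        (σ := perm g hg) (by
          refine Equiv.ext fun x => Subtype.ext (Subtype.ext ?_)
          show g * (g * x.1 * g⁻¹) * g⁻¹ = (x.1 : G)
          calc g * (g * x.1 * g⁻¹) * g⁻¹ = (g * g) * x.1 * (g * g)⁻¹ := by group
            _ = _ := by rw [← Subgroup.mem_centralizer_iff.1 h2 _ x.1.2]; group)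
      exact hfix g hg x.1 x.1.2 (fun e => x.2 (Subtype.ext e))
        (congrArg (fun y : X => ((y.1 : V) : G)) hx)
    · set x0 : X := ⟨⟨v, hv⟩, fun e => hv1 (congrArg Subtype.val e)⟩ with hx0
      set σ := perm g hg with hσ
      have hne1 : σ x0 ≠ x0 := fun e => hgC (hfix g hg v hv hv1 (congrArg (fun y : X => ((y.1 : V) : G)) e))
      have hne2 : σ (σ x0) ≠ x0 := fun e => h2 (hfix _ hg2N v hv hv1 (by
        have := congrArg (fun y : X => ((y.1 : V) : G)) e
        calc g * g * v * (g * g)⁻¹ = g * (g * v * g⁻¹) * g⁻¹ := by group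
          _ = v := this))
      have hne3 : σ (σ x0) ≠ σ x0 := fun e => hne1 (σ.injective e)
      have huniv : ({x0, σ x0, σ (σ x0)} : Finset X) = Finset.univ := by
        refine Finset.eq_univ_of_card _ ?_
        rw [hXc, Finset.card_insert_of_notMem (by simp [hne1.symm, hne2.symm]),
          Finset.card_insert_of_notMem (by simp [hne3.symm]), Finset.card_singleton]
      have h3mem : σ (σ (σ x0)) ∈ ({x0, σ x0, σ (σ x0)} : Finset X) := huniv ▸ Finset.mem_univ _
      simp only [Finset.mem_insert, Finset.mem_singleton] at h3mem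
      rcases h3mem with e | e | e
      · refine hfix _ (mul_mem hg2N hg) v hv hv1 ?_
        have := congrArg (fun y : X => ((y.1 : V) : G)) e
        calc g * g * g * v * (g * g * g)⁻¹ = g * (g * (g * v * g⁻¹) * g⁻¹) * g⁻¹ := by group
          _ = v := this
      · exact absurd (σ.injective e) hne2
      · exact absurd (σ.injective e) hne3
  -- a Sylow subgroup of the centraliser
  obtain ⟨Q, hQ⟩ := hVp.exists_le_sylow
  have hQc : (Q : Subgroup G) ≤ Subgroup.centralizer (V : Set G) := fun x hx =>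
    Subgroup.mem_centralizer_iff.2 fun y hy => (abelian_two S hexp Q.isPGroup').2 y (hQ hy) x hx
  obtain ⟨Q', hQ'⟩ : ∃ Q' : Sylow 2 G, ∃ c ∈ Subgroup.centralizer (V : Set G),
      g * c ∈ Subgroup.normalizer ((Q' : Subgroup G) : Set G) ∧ (Q' : Subgroup G) ≤ Subgroup.centralizer (V : Set G) ∧
      V ≤ (Q' : Subgroup G) := by
    set Z := Subgroup.centralizer (V : Set G) with hZ
    set Q1 := Q.subtype hQc with hQ1
    have hgZ : ∀ x, x ∈ Z → g * x * g⁻¹ ∈ Z := by
      intro x hx
      rw [hZ, Subgroup.mem_centralizer_iff] at hx ⊢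
      intro y hy
      have := hx _ ((Subgroup.mem_normalizer_iff''.1 hg y).1 hy)
      calc y * (g * x * g⁻¹) = g * ((g⁻¹ * y * g) * x) * g⁻¹ := by group
        _ = _ := by rw [this]; group
    have hQg : ((g • Q : Sylow 2 G) : Subgroup G) ≤ Z := by
      rintro _ ⟨x, hx, rfl⟩
      exact hgZ x (hQc hx)
    obtain ⟨c, hc⟩ := MulAction.exists_smul_eq Z ((g • Q).subtype hQg) Q1
    refine ⟨Q, g⁻¹ * (c : G) * g, ?_, ?_, hQc, hQ⟩
    · have hcV : ∀ y ∈ V, y * (c : G) = (c : G) * y := Subgroup.mem_centralizer_iff.1 c.2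
      refine Subgroup.mem_centralizer_iff.2 ?_
      intro y hy
      have := hcV _ ((Subgroup.mem_normalizer_iff.1 hg y).1 hy)
      calc y * (g⁻¹ * c * g) = g⁻¹ * ((g * y * g⁻¹) * c) * g := by group
        _ = _ := by rw [this]; group
    · rw [show g * (g⁻¹ * (c : G) * g) = (c : G) * g by group]
      refine Sylow.smul_eq_iff_mem_normalizer.1 ?_
      rw [mul_smul]
      rw [Sylow.smul_subtype] at hc
      exact Sylow.subtype_injective hc
  obtain ⟨c, hcZ, hnQ, hQZ, hVQ⟩ := hQ'
  set k := g * c with hk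
  have hkN : k ∈ Subgroup.normalizer (V : Set G) := mul_mem hg (Subgroup.centralizer_le_normalizer _ hcZ)
  have hact : ∀ y ∈ V, k * y * k⁻¹ = g * y * g⁻¹ := by
    intro y hy
    calc k * y * k⁻¹ = g * (c * y) * c⁻¹ * g⁻¹ := by rw [hk]; group
      _ = g * (y * c) * c⁻¹ * g⁻¹ := by rw [Subgroup.mem_centralizer_iff.1 hcZ y hy]
      _ = _ := by group
  have hQsq := (abelian_two S hexp Q'.isPGroup').1
  have hTfix : ∀ m ∈ Subgroup.normalizer ((Q' : Subgroup G) : Set G), ∀ t ∈ (Q' : Subgroup G), t ≠ 1 →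
      m * t * m⁻¹ = t → ∀ x ∈ (Q' : Subgroup G), m * x = x * m := fun m hm t ht ht1 he x hx =>
    npc_fix S hexp hnpc (orderOf_eq_prime (by rw [pow_two]; exact hQsq t ht) ht1) he Q'.isPGroup' ht hm hx
  have hk3 : ∀ x ∈ (Q' : Subgroup G), k * k * k * x = x * (k * k * k) := by
    refine hTfix _ (mul_mem (mul_mem hnQ hnQ) hnQ) v (hVQ hv) hv1 ?_
    have e1 := hact v hv
    have e2 := hact _ (hconj hg hv)
    have e3 := hact _ (hconj hg (hconj hg hv))
    calc k * k * k * v * (k * k * k)⁻¹ = k * (k * (k * v * k⁻¹) * k⁻¹) * k⁻¹ := by group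
      _ = g * (g * (g * v * g⁻¹) * g⁻¹) * g⁻¹ := by rw [e1, e2, e3]
      _ = (g * g * g) * v * (g * g * g)⁻¹ := by group
      _ = v := by rw [← Subgroup.mem_centralizer_iff.1 hg3 v hv, mul_inv_cancel_right]
  set Y := {x : (Q' : Subgroup G) // x ≠ 1} with hY
  letI : Fintype Y := Fintype.ofFinite Y
  have hYc : Fintype.card Y = 7 := by
    rw [← Nat.card_eq_fintype_card]
    have := Nat.card_congr (Equiv.optionSubtypeNe (1 : (Q' : Subgroup G)))
    rw [Finite.card_option] at this
    have h' : Nat.card Y + 1 = Nat.card (Q' : Subgroup G) := this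
    rw [Nat.card_congr (Sylow.equiv Q' S).toEquiv, hc] at h'
    omega
  let τ : Equiv.Perm Y :=
    { toFun := fun x => ⟨⟨k * x.1 * k⁻¹, (Subgroup.mem_normalizer_iff.1 hnQ _).1 x.1.2⟩,
        fun e => x.2 (Subtype.ext (conj_eq_one_iff.1 (congrArg Subtype.val e)))⟩
      invFun := fun x => ⟨⟨k⁻¹ * x.1 * k, (Subgroup.mem_normalizer_iff''.1 hnQ _).1 x.1.2⟩,
        fun e => x.2 (Subtype.ext (conj_eq_one_iff.1 (show k⁻¹ * x.1 * k⁻¹⁻¹ = 1 by simpa using congrArg Subtype.val e)))⟩
      left_inv := fun x => Subtype.ext (Subtype.ext (by simp [mul_assoc]))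
      right_inv := fun x => Subtype.ext (Subtype.ext (by simp [mul_assoc])) }
  obtain ⟨t, ht⟩ := Equiv.Perm.exists_fixed_point_of_prime (p := 3) (n := 1) (by rw [hYc]; norm_num) (σ := τ) (by
    refine Equiv.ext fun x => Subtype.ext (Subtype.ext ?_)
    show k * (k * (k * x.1 * k⁻¹) * k⁻¹) * k⁻¹ = (x.1 : G)
    calc k * (k * (k * x.1 * k⁻¹) * k⁻¹) * k⁻¹ = (k * k * k) * x.1 * (k * k * k)⁻¹ := by group
      _ = _ := by rw [hk3 _ x.1.2, mul_inv_cancel_right])
  have hkc := hTfix k hnQ t.1 t.1.2 (fun e => t.2 (Subtype.ext e)) (congrArg (fun y : Y => ((y.1 : (Q' : Subgroup G)) : G)) ht)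
  refine hgC (hfix g hg v hv hv1 ?_)
  rw [← hact v hv, hkc v (hVQ hv), mul_inv_cancel_right]

/-- The theorem. -/
theorem isSolvable : ∀ (n : ℕ) (G : Type u) [Group G] [Finite G], Nat.card G = n → ∀ (S : Sylow 2 G),
    Nat.card (S : Subgroup G) = 8 → (∀ x ∈ (S : Subgroup G), x * x = 1) → ¬ 9 ∣ Nat.card G →
    (∀ t : G, orderOf t = 2 → Cfsg.HasNormalPComplement 2 (C t)) → Group.IsSolvable G := by
  intro n
  induction n using Nat.strong_induction_on with
  | _ n ih =>
  intro G _ _ hn S hc hexp h9 hnpc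
  classical
  haveI : Fact (Nat.Prime 2) := ⟨Nat.prime_two⟩
  have hodd := OddChar.oddSolvable.{u}
  -- subgroups
  have hsub : ∀ H : Subgroup G, H ≠ ⊤ → Group.IsSolvable H := by
    intro H hH
    obtain ⟨P⟩ : Nonempty (Sylow 2 H) := inferInstance
    set P' := (P : Subgroup H).map H.subtype with hP'
    have hPp : IsPGroup 2 P' := P.isPGroup'.map _
    have hPc : Nat.card P' = Nat.card (P : Subgroup H) := Subgroup.card_map_of_injective H.subtype_injective
    obtain ⟨hsq, habel⟩ := abelian_two S hexp hPp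
    obtain ⟨Q, hQ⟩ := hPp.exists_le_sylow
    have hQc : Nat.card (Q : Subgroup G) = 8 := by rw [Nat.card_congr (Sylow.equiv Q S).toEquiv, hc]
    have hd : Nat.card (P : Subgroup H) ∣ 8 := hPc ▸ hQc ▸ Subgroup.card_dvd_of_le hQ
    obtain ⟨k, hk3, hk⟩ := (Nat.dvd_prime_pow Nat.prime_two).1 (show Nat.card (P : Subgroup H) ∣ 2 ^ 3 from hd)
    interval_cases k
    case «3» =>
      refine ih (Nat.card H) (hn ▸ ?_) H rfl P hk
        (fun x hx => Subtype.ext (hsq x ⟨x, hx, rfl⟩)) (fun h => h9 (h.trans (Subgroup.card_subgroup_dvd_card H))) ?_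
      · exact lt_of_not_ge fun hle => hH (Subgroup.eq_top_of_le_card H hle)
      · intro t ht
        let f : C t →* C (t : G) := (H.subtype.comp (C t).subtype).codRestrict _ fun x =>
          mem_C.2 (congrArg Subtype.val (mem_C.1 x.2))
        exact PBasic.hasNormalPComplement_of_injective f
          (fun x y e => Subtype.ext (Subtype.ext (congrArg (fun z : C (t : G) => (z : G)) e : ((x : H) : G) = ((y : H) : G))))
          (hnpc t (by rw [Subgroup.orderOf_coe, ht]))
    case «2» =>
      refine RealTwoPart.isSolvable_of_hasNormalPComplement hodd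
        (Fusion.hasNormalPComplement_of_normalizer_le_centralizer P fun g hg => ?_)
      have hg' : (g : G) ∈ Subgroup.normalizer (P' : Set G) := Subgroup.le_normalizer_map H.subtype ⟨g, hg, rfl⟩
      have := four_central S hc hexp hnpc P' (by rw [hPc, hk]; norm_num) hg'
      refine Subgroup.mem_centralizer_iff.2 fun y hy => Subtype.ext ?_
      exact Subgroup.mem_centralizer_iff.1 this y ⟨y, hy, rfl⟩
    case «1» =>
      haveI : IsCyclic (P : Subgroup H) := isCyclic_of_prime_card (hk.trans (pow_one 2))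
      exact RealTwoPart.isSolvable_of_hasNormalPComplement hodd
        (HSub.hasNormalPComplement_of_cyclic P fun r hr _ => hr.two_le)
    case «0» =>
      haveI : Subsingleton (P : Subgroup H) := (Nat.card_eq_one_iff_unique.1 (hk.trans (pow_zero 2))).1
      haveI : IsCyclic (P : Subgroup H) := isCyclic_of_subsingleton
      exact RealTwoPart.isSolvable_of_hasNormalPComplement hodd
        (HSub.hasNormalPComplement_of_cyclic P fun r hr _ => hr.two_le)
  -- odd normal subgroups
  have hquot : ∀ N : Subgroup G, N.Normal → N ≠ ⊥ → ¬ 2 ∣ Nat.card N → Group.IsSolvable G := by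
    intro N hN hN1 hN2
    have hker : (Nat.card (QuotientGroup.mk' N).ker).Coprime 2 := by
      rw [QuotientGroup.ker_mk']
      exact ((Nat.Prime.coprime_iff_not_dvd Nat.prime_two).2 hN2).symm
    set f := QuotientGroup.mk' N with hf
    have hfs : Function.Surjective f := QuotientGroup.mk'_surjective N
    have hmul := Subgroup.card_mul_index N
    have hlt : Nat.card (G ⧸ N) < n := by
      have h1 : 1 < Nat.card N := by
        have := (Subgroup.nontrivial_iff_ne_bot N).2 hN1
        exact Finite.one_lt_card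
      have h2 : 0 < N.index := Nat.pos_of_ne_zero Subgroup.index_ne_zero_of_finite
      have h3 : 1 * N.index < Nat.card N * N.index := Nat.mul_lt_mul_of_pos_right h1 h2
      rw [← hn, ← hmul]
      simpa [Subgroup.index] using h3
    have hinj : Set.InjOn f (S : Subgroup G) := CoprimeQuotient.injOn_of_coprime_ker f hker S.isPGroup'
    have hc' : Nat.card ((S.mapSurjective hfs : Sylow 2 (G ⧸ N)) : Subgroup (G ⧸ N)) = 8 := by
      rw [Sylow.coe_mapSurjective, ← hc]
      exact Nat.card_image_of_injOn hinj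
    haveI hQsol : Group.IsSolvable (G ⧸ N) := by
      refine ih _ hlt (G ⧸ N) rfl (S.mapSurjective hfs) hc' ?_
        (fun h => h9 (h.trans (Dvd.intro_left _ hmul))) ?_
      · rintro _ ⟨x, hx, rfl⟩
        rw [← map_mul, hexp x hx, map_one]
      · intro t ht
        obtain ⟨Q, hQ⟩ := (IsPGroup.of_card (n := 1) (by rw [Nat.card_zpowers, ht, pow_one]) :
          IsPGroup 2 (Subgroup.zpowers t)).exists_le_sylow
        obtain ⟨g, hg⟩ := MulAction.exists_smul_eq (G ⧸ N) Q (S.mapSurjective hfs)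
        obtain ⟨g', rfl⟩ := hfs g
        have htS : f g' * t * (f g')⁻¹ ∈ ((S.mapSurjective hfs : Sylow 2 (G ⧸ N)) : Subgroup (G ⧸ N)) := by
          rw [← hg]
          exact Subgroup.smul_mem_pointwise_smul _ (MulAut.conj (f g')) _ (hQ (Subgroup.mem_zpowers t))
        obtain ⟨s, hs, hst⟩ := htS
        set t' := g'⁻¹ * s * g' with ht'
        have hft : f t' = t := by
          rw [ht', map_mul, map_mul, map_inv, show f s = f g' * t * (f g')⁻¹ from hst]
          group
        have hsq : t' * t' = 1 := by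
          rw [ht', show g'⁻¹ * s * g' * (g'⁻¹ * s * g') = g'⁻¹ * (s * s) * g' by group, hexp s hs]
          group
        have ht'o : orderOf t' = 2 := by
          refine orderOf_eq_prime (by rw [pow_two]; exact hsq) fun e => ?_
          rw [e, map_one] at hft
          rw [← hft, orderOf_one] at ht
          omega
        have hzp : IsPGroup 2 (Subgroup.zpowers t') :=
          IsPGroup.of_card (n := 1) (by rw [Nat.card_zpowers, ht'o, pow_one])
        have hmapz : (Subgroup.zpowers t').map f = Subgroup.zpowers t := by rw [MonoidHom.map_zpowers, hft]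
        let φ : C t' →* C t := (f.comp (C t').subtype).codRestrict _ fun x => mem_C.2 (by
          show f (x : G) * t = t * f (x : G)
          rw [← hft, ← map_mul, ← map_mul, mem_C.1 x.2])
        refine PBasic.hasNormalPComplement_of_surjective φ ?_ (hnpc t' ht'o)
        rintro ⟨y, hy⟩
        have hyN : y ∈ Subgroup.normalizer ((Subgroup.zpowers t : Subgroup (G ⧸ N)) : Set (G ⧸ N)) := by
          rw [Subgroup.mem_normalizer_iff]
          intro z
          have hyz : ∀ k : ℤ, y * t ^ k * y⁻¹ = t ^ k := fun k => by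
            rw [((show Commute y t from mem_C.1 hy).zpow_right k).eq, mul_inv_cancel_right]
          constructor
          · rintro ⟨k, rfl⟩; exact ⟨k, (hyz k).symm⟩
          · rintro ⟨k, hk⟩
            exact ⟨k, mul_left_cancel (a := y) (mul_right_cancel (b := y⁻¹) ((hyz k).trans hk))⟩
        rw [← hmapz, CoprimeQuotient.normalizer_map f hfs hker hzp] at hyN
        obtain ⟨x, hx, rfl⟩ := hyN
        refine ⟨⟨x, mem_C.2 ?_⟩, Subtype.ext rfl⟩
        have hxt := (Subgroup.mem_normalizer_iff.1 hx t').1 (Subgroup.mem_zpowers t')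
        obtain ⟨k, hk⟩ := Subgroup.mem_zpowers_iff.1 hxt
        rcases Int.even_or_odd k with ⟨m, rfl⟩ | ⟨m, rfl⟩
        · rw [← two_mul, zpow_mul, zpow_two, hsq, one_zpow, eq_comm, conj_eq_one_iff] at hk
          rw [hk, orderOf_one] at ht'o
          omega
        · rw [zpow_add, zpow_mul, zpow_two, hsq, one_zpow, one_mul, zpow_one] at hk
          exact (mul_inv_eq_iff_eq_mul.1 hk.symm)
    haveI : Group.IsSolvable N := hodd N (Nat.odd_iff.2 (Nat.two_dvd_ne_zero.1 hN2))
    haveI := hN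
    exact (Group.isSolvable_iff_subgroup_quotient N).2 ⟨inferInstance, hQsol⟩
  have hcentral : ∀ v : G, v ≠ 1 → v * v = 1 → (∀ g : G, g * v = v * g) → Group.IsSolvable G := by
    intro v hv1 hvv hcv
    have e : C v = ⊤ := eq_top_iff.2 fun g _ => mem_C.2 (hcv g)
    have := PBasic.hasNormalPComplement_of_surjective ((C v).subtype) (fun g => ⟨⟨g, e ▸ Subgroup.mem_top g⟩, rfl⟩)
      (hnpc v (orderOf_eq_prime (by rw [pow_two]; exact hvv) hv1))
    exact RealTwoPart.isSolvable_of_hasNormalPComplement hodd this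
  by_cases hsimple : IsSimpleGroup G
  · by_contra hns
    have hna : ¬ IsMulCommutative G := fun hcomm => hns (Group.isSolvable_of_comm fun a b => hcomm.1.comm a b)
    exact Hyp.false (⟨hsimple, hna, hsub, hc, hexp, h9, hnpc⟩ : Hyp S)
  · haveI : Nontrivial G := Finite.one_lt_card_iff_nontrivial.1 (by
      have := Subgroup.card_le_card_group (S : Subgroup G); omega)
    obtain ⟨N, hN, hN1, hN2⟩ : ∃ N : Subgroup G, N.Normal ∧ N ≠ ⊥ ∧ N ≠ ⊤ := by
      by_contra hcon
      push_neg at hcon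
      exact hsimple ⟨fun N hN => (em (N = ⊥)).imp_right (hcon N hN)⟩
    haveI := hN
    haveI hNs := hsub N hN2
    by_cases hcore : Cfsg.pPrimeCore 2 N = ⊥
    swap
    · haveI : (Cfsg.pPrimeCore 2 N).Characteristic := PBasic.pPrimeCore_characteristic 2 N
      refine hquot ((Cfsg.pPrimeCore 2 N).map N.subtype) inferInstance ?_ ?_
      · exact fun e => hcore ((Subgroup.map_eq_bot_iff_of_injective _ N.subtype_injective).1 e)
      · exact not_dvd_core' N
    set E := (Cfsg.pCore 2 N).map N.subtype with hE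
    haveI : (Cfsg.pCore 2 N).Characteristic := PBasic.pCore_characteristic 2 N
    haveI hEn : E.Normal := inferInstanceAs ((Cfsg.pCore 2 N).map N.subtype).Normal
    have hEp : IsPGroup 2 E := (FittingCores.pCore_isPGroup 2).map _
    have hE1 : E ≠ ⊥ := by
      intro e
      have e' : Cfsg.pCore 2 N = ⊥ := (Subgroup.map_eq_bot_iff_of_injective _ N.subtype_injective).1 e
      have := FittingCores.centralizer_pCore_le Nat.prime_two hcore
      rw [e'] at this
      refine hN1 (eq_bot_iff.2 fun x hx => ?_)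
      have h1 : (⟨x, hx⟩ : N) ∈ (⊥ : Subgroup N) := this (Subgroup.mem_centralizer_iff.2 fun y hy => by
        rw [SetLike.mem_coe, Subgroup.mem_bot] at hy
        rw [hy, one_mul, mul_one])
      exact Subgroup.mem_bot.2 (congrArg Subtype.val (Subgroup.mem_bot.1 h1))
    obtain ⟨hEsq, hEc⟩ := abelian_two S hexp hEp
    obtain ⟨v, hv, hv1⟩ : ∃ v ∈ E, v ≠ 1 := by
      have := (Subgroup.nontrivial_iff_ne_bot E).2 hE1
      obtain ⟨v, hv⟩ := exists_ne (1 : E)
      exact ⟨v, v.2, fun e => hv (Subtype.ext e)⟩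
    obtain ⟨Q, hQ⟩ := hEp.exists_le_sylow
    have hQc : Nat.card (Q : Subgroup G) = 8 := by rw [Nat.card_congr (Sylow.equiv Q S).toEquiv, hc]
    obtain ⟨k, hk3, hk⟩ := (Nat.dvd_prime_pow Nat.prime_two).1
      ((Subgroup.card_dvd_of_le hQ).trans (dvd_of_eq hQc) : Nat.card E ∣ 2 ^ 3)
    interval_cases k
    case «0» => exact absurd (Subgroup.card_eq_one.1 (hk.trans (pow_zero 2))) hE1
    case «1» =>
      refine hcentral v hv1 (hEsq v hv) fun g => mul_inv_eq_iff_eq_mul.1 ?_
      haveI : Nontrivial E := (Subgroup.nontrivial_iff_ne_bot E).2 hE1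
      obtain ⟨a, b, hab, huniv⟩ := Nat.card_eq_two_iff.1 (hk.trans (pow_one 2))
      have hall : ∀ y : E, y = 1 ∨ y = ⟨v, hv⟩ := by
        intro y
        have hy := huniv.ge (Set.mem_univ y)
        have h1 := huniv.ge (Set.mem_univ (1 : E))
        have hv' := huniv.ge (Set.mem_univ (⟨v, hv⟩ : E))
        simp only [Set.mem_insert_iff, Set.mem_singleton_iff] at hy h1 hv'
        have hne : (⟨v, hv⟩ : E) ≠ 1 := fun e => hv1 (congrArg Subtype.val e)
        rcases hy with rfl | rfl <;> rcases h1 with e1 | e1 <;> rcases hv' with e2 | e2 <;>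
          first | exact Or.inl e1.symm | exact Or.inr e2.symm | exact absurd (e2.trans e1.symm) hne
      rcases hall ⟨g * v * g⁻¹, hEn.conj_mem v hv g⟩ with e | e
      · exact absurd (conj_eq_one_iff.1 (congrArg Subtype.val e)) hv1
      · exact congrArg Subtype.val e
    case «2» =>
      refine hcentral v hv1 (hEsq v hv) fun g => ?_
      have := four_central S hc hexp hnpc E (by rw [hk]; norm_num)
        (show g ∈ Subgroup.normalizer (E : Set G) by rw [Subgroup.normalizer_eq_top_iff.2 hEn]; exact Subgroup.mem_top g)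
      exact (Subgroup.mem_centralizer_iff.1 this v hv).symm
    case «3» =>
      have hQE : (Q : Subgroup G) = E := (Subgroup.eq_of_le_of_card_ge hQ (by rw [hQc, hk]; norm_num)).symm
      have hidx := Q.not_dvd_index
      rw [hQE] at hidx
      haveI : Group.IsSolvable (G ⧸ E) := hodd (G ⧸ E) (Nat.odd_iff.2 (Nat.two_dvd_ne_zero.1 hidx))
      haveI : Group.IsSolvable E := Group.isSolvable_of_comm fun a b => Subtype.ext (hEc a a.2 b b.2)
      exact (Group.isSolvable_iff_subgroup_quotient E).2 ⟨inferInstance, inferInstance⟩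

end Cfsg.Agent.EightSylow
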