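import Cfsg.Agent.Lib.EightSylow.Eigen
import Cfsg.Agent.Lib.Char.WielandtFrobenius
import Cfsg.Agent.Lib.Isolated.HSubgroup
import Cfsg.Agent.Lib.Solvable.WielandtOrder
import Cfsg.Agent.S1225

/-!
If S moves W the group does not exist: uniqueness for the prime q and a count in M ∩ M^u.
-/

set_option autoImplicit false
set_option linter.style.haveILetI false
set_option linter.unusedSectionVars false

open scoped commutatorElement

namespace Cfsg.Agent.EightSylow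

variable {G : Type*} [Group G] [Finite G]

/-- The kernel of a line. -/
def ker' (S : Sylow 2 G) (e : G) : Subgroup G := (S : Subgroup G) ⊓ C e

theorem eq_one_of_card_coprime {R Q : Subgroup G} {q : ℕ} [Fact q.Prime] (hR : ¬ q ∣ Nat.card R)
    (hQ : IsPGroup q Q) {x : G} (h1 : x ∈ R) (h2 : x ∈ Q) : x = 1 := by
  obtain ⟨k, hk⟩ := IsPGroup.iff_orderOf.1 hQ ⟨x, h2⟩
  rw [Subgroup.orderOf_mk] at hk
  have h := orderOf_dvd_natCard (⟨x, h1⟩ : R)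
  rw [Subgroup.orderOf_mk, hk] at h
  rcases Nat.eq_zero_or_pos k with rfl | hk0
  · rwa [pow_zero, orderOf_eq_one_iff] at hk
  · exact absurd ((dvd_pow_self q hk0.ne').trans h) hR

namespace Mov

variable {S : Sylow 2 G} {q : ℕ} {X : Subgroup G} (mv : Mov S q X) (h : Hyp S)
include mv h

theorem exists_out {e : G} (he : Eig S X e) : ∃ t1 t2 t3 : G, (t1 ∈ (S : Subgroup G) ∧ t1 ∉ C e) ∧
    (t2 ∈ (S : Subgroup G) ∧ t2 ∉ C e) ∧ (t3 ∈ (S : Subgroup G) ∧ t3 ∉ C e) ∧ t1 ≠ t2 ∧ t1 ≠ t3 ∧ t2 ≠ t3 := by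
  classical
  obtain ⟨s, hs, hse⟩ := he.moved
  have hlt : ker' S e < (S : Subgroup G) := lt_of_le_of_ne inf_le_left fun e' => by
    have h1 : s ∈ C e := (Subgroup.mem_inf.1 (e'.ge hs)).2
    exact mv.ne_inv h he.mem he.ne_one (hse.symm.trans ((he.fix_iff h mv hs).1.1 h1))
  have hd : Nat.card (ker' S e) ∣ 8 := h.card ▸ Subgroup.card_dvd_of_le hlt.le
  have hne : Nat.card (ker' S e) ≠ 8 := fun e' =>
    hlt.ne (Subgroup.eq_of_le_of_card_ge hlt.le (by rw [h.card, e']))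
  have h4 : Nat.card (ker' S e) ≤ 4 := by
    have h8 := Nat.le_of_dvd (by norm_num) hd
    interval_cases Nat.card (ker' S e) <;> omega
  set T := ((S : Subgroup G) : Set G) \ (ker' S e : Set G) with hT
  have hcT : 2 < T.ncard := by
    rw [hT, Set.ncard_diff (SetLike.coe_subset_coe.2 hlt.le) (Set.toFinite _), ← Nat.card_coe_set_eq,
      ← Nat.card_coe_set_eq]
    show 2 < Nat.card (S : Subgroup G) - Nat.card (ker' S e)
    rw [h.card]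
    omega
  obtain ⟨t1, t2, t3, h1, h2, h3, d12, d13, d23⟩ := (Set.two_lt_ncard_iff (Set.toFinite _)).1 hcT
  exact ⟨t1, t2, t3, ⟨h1.1, fun h' => h1.2 ⟨h1.1, h'⟩⟩, ⟨h2.1, fun h' => h2.2 ⟨h2.1, h'⟩⟩,
    ⟨h3.1, fun h' => h3.2 ⟨h3.1, h'⟩⟩, d12, d13, d23⟩

theorem mul_mem_ker {e : G} (he : Eig S X e) {s t : G} (hs : s ∈ (S : Subgroup G)) (ht : t ∈ (S : Subgroup G))
    (hs' : s ∉ C e) (ht' : t ∉ C e) : s * t ∈ C e := by
  rw [(he.fix_iff h mv ((S : Subgroup G).mul_mem hs ht)).1]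
  have e1 := (he.fix_iff h mv hs).2.1 hs'
  have e2 := (he.fix_iff h mv ht).2.1 ht'
  calc s * t * e * (s * t) = (s * t) * e * (t * s) := by rw [h.comm hs ht]
    _ = s * (t * e * t) * s := by group
    _ = e := by rw [e2, h.s_inv hs, e1, inv_inv]

theorem exists_in {e : G} (he : Eig S X e) : ∃ b1 b2 : G, (b1 ∈ (S : Subgroup G) ∧ b1 ≠ 1 ∧ b1 ∈ C e) ∧
    (b2 ∈ (S : Subgroup G) ∧ b2 ≠ 1 ∧ b2 ∈ C e) ∧ b1 ≠ b2 := by
  obtain ⟨t1, t2, t3, ⟨h1, h1'⟩, ⟨h2, h2'⟩, ⟨h3, h3'⟩, d12, d13, d23⟩ := mv.exists_out h he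
  have hne : ∀ {s t : G}, s ∈ (S : Subgroup G) → s ≠ t → s * t ≠ 1 := fun hs hd e' => hd (by
    rw [mul_eq_one_iff_eq_inv] at e'
    rw [← inv_eq_iff_eq_inv, h.inv_eq hs] at e'
    exact e')
  exact ⟨t1 * t2, t1 * t3, ⟨mul_mem h1 h2, hne h1 d12, mv.mul_mem_ker h he h1 h2 h1' h2'⟩,
    ⟨mul_mem h1 h3, hne h1 d13, mv.mul_mem_ker h he h1 h3 h1' h3'⟩, fun e' => d23 (mul_left_cancel e')⟩

theorem C_eig_le {e : G} (he : Eig S X e) : C e ≤ M S := by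
  obtain ⟨b1, b2, ⟨h1, n1, c1⟩, ⟨h2, n2, c2⟩, hne⟩ := mv.exists_in h he
  exact h.uniq4 (h.C_ne_top he.ne_one) c1 c2 (h.S_le_M h1) (h.S_le_M h2) (h.order2 h1 n1) (h.order2 h2 n2) hne
    (h.comm h1 h2)

theorem mem_C_conj {e n b : G} (hb : b ∈ C e) : n * b * n⁻¹ ∈ C (n * e * n⁻¹) := by
  rw [mem_C] at hb ⊢
  calc n * b * n⁻¹ * (n * e * n⁻¹) = n * (b * e) * n⁻¹ := by group
    _ = _ := by rw [hb]; group

theorem mem_C_conj_iff {e n b : G} : n * b * n⁻¹ ∈ C (n * e * n⁻¹) ↔ b ∈ C e := by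
  refine ⟨fun hb => ?_, fun hb => mv.mem_C_conj h hb⟩
  simpa [mul_assoc] using mv.mem_C_conj h (n := n⁻¹) hb

/-- Conjugates of a line with the same kernel differ by an element centralising S. -/
theorem stab {e : G} (he : Eig S X e) {n : G} (hn : n ∈ Subgroup.normalizer ((S : Subgroup G) : Set G))
    (hker : ker' S (n * e * n⁻¹) = ker' S e) : n ∈ Subgroup.centralizer ((S : Subgroup G) : Set G) := by
  set N := Subgroup.normalizer ((S : Subgroup G) : Set G) with hN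
  set Z := Subgroup.centralizer ((S : Subgroup G) : Set G) with hZ
  set K := ker' S e with hK
  set A := N ⊓ Subgroup.normalizer (K : Set G) with hA
  have hnK : n ∈ Subgroup.normalizer (K : Set G) := by
    rw [Subgroup.mem_normalizer_iff]
    intro b
    constructor
    · intro hb
      exact hker.le ⟨(Subgroup.mem_normalizer_iff.1 hn b).1 hb.1, mv.mem_C_conj h hb.2⟩
    · intro hb
      have hb' := hker.ge hb
      exact ⟨(Subgroup.mem_normalizer_iff.1 hn b).2 hb'.1, (mv.mem_C_conj_iff h).1 hb'.2⟩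
  have hZA : Z ≤ A := le_inf (Subgroup.centralizer_le_normalizer _)
    ((Subgroup.centralizer_le (inf_le_left : K ≤ _)).trans (Subgroup.centralizer_le_normalizer _))
  have hAN : A ≤ N := inf_le_left
  obtain ⟨d, hd⟩ := Subgroup.card_dvd_of_le hZA
  have hd7 : d ∣ 7 := by
    have h1 := Subgroup.card_dvd_of_le hAN
    rw [hN, h.card_N, hd, mul_comm 7] at h1
    exact Nat.dvd_of_mul_dvd_mul_left Nat.card_pos h1
  rcases (Nat.dvd_prime (by norm_num)).1 hd7 with rfl | rfl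
  · rw [Subgroup.eq_of_le_of_card_ge hZA (by rw [hd, mul_one])]
    exact ⟨hn, hnK⟩
  · exfalso
    have hAeq : A = N := Subgroup.eq_of_le_of_card_ge hAN (by rw [hN, h.card_N, hd, mul_comm])
    obtain ⟨b1, -, ⟨hb1, hb1', hb1C⟩, -, -⟩ := mv.exists_in h he
    obtain ⟨t1, -, -, ⟨ht1, ht1'⟩, -, -, -, -, -⟩ := mv.exists_out h he
    obtain ⟨m, hm, hmb⟩ := h.transitive hb1 hb1' ht1 (fun e' => ht1' (e' ▸ (C e).one_mem))
    have hmA : m ∈ A := hAeq.ge hm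
    have := ((Subgroup.mem_normalizer_iff.1 (Subgroup.mem_inf.1 hmA).2) b1).1 ⟨hb1, hb1C⟩
    rw [hmb] at this
    exact ht1' this.2

theorem transport {e b a : G} (he : Eig S X e) (hb : b ∈ (S : Subgroup G)) (hb1 : b ≠ 1)
    (ha : a ∈ (S : Subgroup G)) (ha1 : a ≠ 1) : ∃ n ∈ Subgroup.normalizer ((S : Subgroup G) : Set G),
      n * b * n⁻¹ = a ∧ Eig S X (n * e * n⁻¹) ∧ (a ∈ C (n * e * n⁻¹) ↔ b ∈ C e) := by
  obtain ⟨n, hn, hnb⟩ := h.transitive hb hb1 ha ha1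
  exact ⟨n, hn, hnb, he.conj h mv hn, hnb ▸ mv.mem_C_conj_iff h⟩

theorem ker_conj_ne {e b b' a n n' : G} (he : Eig S X e)
    (hn : n ∈ Subgroup.normalizer ((S : Subgroup G) : Set G)) (hn' : n' ∈ Subgroup.normalizer ((S : Subgroup G) : Set G))
    (hb : b ∈ (S : Subgroup G)) (h1 : n * b * n⁻¹ = a) (h2 : n' * b' * n'⁻¹ = a) (hne : b ≠ b') :
    ker' S (n * e * n⁻¹) ≠ ker' S (n' * e * n'⁻¹) := by
  intro hk
  apply hne
  have hm : n'⁻¹ * n ∈ Subgroup.normalizer ((S : Subgroup G) : Set G) := mul_mem (inv_mem hn') hn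
  have hk' : ker' S (n'⁻¹ * n * e * (n'⁻¹ * n)⁻¹) = ker' S e := by
    have hS : ∀ x : G, x ∈ (S : Subgroup G) ↔ n' * x * n'⁻¹ ∈ (S : Subgroup G) :=
      fun x => Subgroup.mem_normalizer_iff.1 hn' x
    ext x
    constructor
    · intro hx
      have hx' : n' * x * n'⁻¹ ∈ ker' S (n * e * n⁻¹) := ⟨(hS x).1 hx.1, by
        have := mv.mem_C_conj h (n := n') hx.2
        simpa [mul_assoc] using this⟩
      exact ⟨hx.1, (mv.mem_C_conj_iff h).1 (hk.le hx').2⟩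
    · intro hx
      have hx' : n' * x * n'⁻¹ ∈ ker' S (n' * e * n'⁻¹) := ⟨(hS x).1 hx.1, mv.mem_C_conj h hx.2⟩
      refine ⟨hx.1, ?_⟩
      have := mv.mem_C_conj h (n := n'⁻¹) (hk.ge hx').2
      simpa [mul_assoc] using this
  have hc := Subgroup.mem_centralizer_iff.1 (mv.stab h he hm hk') b hb
  calc b = (n'⁻¹ * n) * b * (n'⁻¹ * n)⁻¹ := by rw [← hc]; group
    _ = n'⁻¹ * (n * b * n⁻¹) * n' := by group
    _ = b' := by rw [h1, ← h2]; group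

theorem lines_moved {a : G} (ha : a ∈ (S : Subgroup G)) (ha1 : a ≠ 1) :
    ∃ e1 e2 e3 : G, (Eig S X e1 ∧ a ∉ C e1) ∧ (Eig S X e2 ∧ a ∉ C e2) ∧ (Eig S X e3 ∧ a ∉ C e3) ∧
      ker' S e1 ≠ ker' S e2 ∧ ker' S e1 ≠ ker' S e3 ∧ ker' S e2 ≠ ker' S e3 := by
  obtain ⟨e, he⟩ := mv.exists_eig h
  obtain ⟨t1, t2, t3, ⟨h1, h1'⟩, ⟨h2, h2'⟩, ⟨h3, h3'⟩, d12, d13, d23⟩ := mv.exists_out h he
  have hne : ∀ {t : G}, t ∉ C e → t ≠ 1 := fun ht e' => ht (e' ▸ (C e).one_mem)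
  obtain ⟨n1, m1, q1, E1, i1⟩ := mv.transport h he h1 (hne h1') ha ha1
  obtain ⟨n2, m2, q2, E2, i2⟩ := mv.transport h he h2 (hne h2') ha ha1
  obtain ⟨n3, m3, q3, E3, i3⟩ := mv.transport h he h3 (hne h3') ha ha1
  exact ⟨_, _, _, ⟨E1, fun h' => h1' (i1.1 h')⟩, ⟨E2, fun h' => h2' (i2.1 h')⟩, ⟨E3, fun h' => h3' (i3.1 h')⟩,
    mv.ker_conj_ne h he m1 m2 h1 q1 q2 d12, mv.ker_conj_ne h he m1 m3 h1 q1 q3 d13,
    mv.ker_conj_ne h he m2 m3 h2 q2 q3 d23⟩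

theorem lines_fixed {a : G} (ha : a ∈ (S : Subgroup G)) (ha1 : a ≠ 1) :
    ∃ e1 e2 : G, (Eig S X e1 ∧ a ∈ C e1) ∧ (Eig S X e2 ∧ a ∈ C e2) ∧ ker' S e1 ≠ ker' S e2 := by
  obtain ⟨e, he⟩ := mv.exists_eig h
  obtain ⟨b1, b2, ⟨h1, n1', c1⟩, ⟨h2, n2', c2⟩, hne⟩ := mv.exists_in h he
  obtain ⟨n1, m1, q1, E1, i1⟩ := mv.transport h he h1 n1' ha ha1
  obtain ⟨n2, m2, q2, E2, i2⟩ := mv.transport h he h2 n2' ha ha1
  exact ⟨_, _, ⟨E1, i1.2 c1⟩, ⟨E2, i2.2 c2⟩, mv.ker_conj_ne h he m1 m2 h1 q1 q2 hne⟩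

theorem comm_of_sign {e1 e2 s : G} (he1 : e1 ∈ X) (he2 : e2 ∈ X) (hs : s ∈ (S : Subgroup G))
    (h1 : s * e1 * s = e1) (h2 : s * e2 * s = e2⁻¹) : Commute e1 e2 := by
  rw [← commutatorElement_eq_one_iff_commute]
  refine eq_one_of_inv_eq (mv.odd_X h) (mul_mem (mul_mem (mul_mem he1 he2) (inv_mem he1)) (inv_mem he2)) ?_
  have hf : s * ⁅e1, e2⁆ * s = ⁅e1, e2⁆ := by
    rw [(mv.fix_comm e1 he1 e2 he2 s hs).eq, mul_assoc, h.exp s hs, mul_one]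
  have hf2 : s * ⁅e1, e2⁆ * s = ⁅e1, e2⁻¹⁆ := by
    rw [commutatorElement_def, commutatorElement_def, h.s_mul hs, h.s_mul hs, h.s_mul hs, h.s_inv hs, h.s_inv hs,
      h1, h2]
  have h3 : ⁅e1, e2⁻¹⁆ = ⁅e1, e2⁆⁻¹ := by
    rw [commutatorElement_inv_right, commutatorElement_inv, mul_assoc,
      (mv.cen e2 he2 e1 he1 e2 he2).eq, inv_mul_cancel_left]
  rw [← h3, ← hf2, hf]

theorem exists_split {e1 e2 : G} (he1 : Eig S X e1) (he2 : Eig S X e2) (hk : ker' S e1 ≠ ker' S e2) :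
    ∃ s ∈ (S : Subgroup G), (s * e1 * s = e1 ∧ s * e2 * s = e2⁻¹) ∨ (s * e1 * s = e1⁻¹ ∧ s * e2 * s = e2) := by
  by_contra hcon
  push_neg at hcon
  refine hk ?_
  ext s
  constructor
  · intro hs
    refine ⟨hs.1, ?_⟩
    by_contra h'
    exact (hcon s hs.1).1 ((he1.fix_iff h mv hs.1).1.1 hs.2) ((he2.fix_iff h mv hs.1).2.1 h')
  · intro hs
    refine ⟨hs.1, ?_⟩
    by_contra h'
    exact (hcon s hs.1).2 ((he1.fix_iff h mv hs.1).2.1 h') ((he2.fix_iff h mv hs.1).1.1 hs.2)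

theorem comm_lines {e1 e2 : G} (he1 : Eig S X e1) (he2 : Eig S X e2) (hk : ker' S e1 ≠ ker' S e2) :
    Commute e1 e2 := by
  obtain ⟨s, hs, h' | h'⟩ := mv.exists_split h he1 he2 hk
  · exact mv.comm_of_sign h he1.mem he2.mem hs h'.1 h'.2
  · exact (mv.comm_of_sign h he2.mem he1.mem hs h'.2 h'.1).symm

theorem zpow_sign {s : G} (hs : s ∈ (S : Subgroup G)) (x : G) (i : ℤ) : s * x ^ i * s = (s * x * s) ^ i := by
  obtain ⟨n, rfl | rfl⟩ := i.eq_nat_or_neg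
  · rw [zpow_natCast, zpow_natCast, h.s_pow hs]
  · rw [zpow_neg, zpow_neg, zpow_natCast, zpow_natCast, h.s_inv hs, h.s_pow hs]

theorem eq_one_of_sq {x : G} (hx : x ∈ X) (h2 : x * x = 1) : x = 1 :=
  eq_one_of_inv_eq (mv.odd_X h) hx (inv_eq_of_mul_eq_one_right h2)

theorem pair {e1 e2 : G} (he1 : Eig S X e1) (he2 : Eig S X e2) (hk : ker' S e1 ≠ ker' S e2) {i j : ℤ}
    (hij : e1 ^ i * e2 ^ j = 1) : e1 ^ i = 1 ∧ e2 ^ j = 1 := by
  have key : ∀ {e1 e2 s : G} {i j : ℤ}, Eig S X e2 → s ∈ (S : Subgroup G) → s * e1 * s = e1 →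
      s * e2 * s = e2⁻¹ → e1 ^ i * e2 ^ j = 1 → e1 ^ i = 1 ∧ e2 ^ j = 1 := by
    intro e1 e2 s i j he2 hs h1 h2 hij
    have h' : e1 ^ i * e2⁻¹ ^ j = 1 := by
      have := congrArg (fun z => s * z * s) hij
      rwa [h.s_mul hs, mv.zpow_sign h hs, mv.zpow_sign h hs, h1, h2, mul_one, h.exp s hs] at this
    have he : e2⁻¹ ^ j = e2 ^ j := mul_left_cancel (h'.trans hij.symm)
    have h0 : e2 ^ j = 1 := eq_one_of_inv_eq (mv.odd_X h) (zpow_mem he2.mem j) (by rw [← inv_zpow, he])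
    exact ⟨by rwa [h0, mul_one] at hij, h0⟩
  obtain ⟨s, hs, h' | h'⟩ := mv.exists_split h he1 he2 hk
  · exact key he2 hs h'.1 h'.2 hij
  · have hc := ((mv.comm_lines h he1 he2 hk).zpow_zpow i j).eq
    exact (key he1 hs h'.2 h'.1 (hc ▸ hij)).symm

theorem triple {e1 e2 e3 : G} (he1 : Eig S X e1) (he2 : Eig S X e2) (he3 : Eig S X e3)
    (h12 : ker' S e1 ≠ ker' S e2) (h13 : ker' S e1 ≠ ker' S e3) (h23 : ker' S e2 ≠ ker' S e3) {i j k : ℤ}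
    (hijk : e1 ^ i * e2 ^ j * e3 ^ k = 1) : e1 ^ i = 1 ∧ e2 ^ j = 1 ∧ e3 ^ k = 1 := by
  have key : ∀ {e1 e2 e3 s : G} {i j k : ℤ}, Eig S X e1 → Eig S X e2 → Eig S X e3 →
      ker' S e1 ≠ ker' S e2 → ker' S e1 ≠ ker' S e3 → ker' S e2 ≠ ker' S e3 → s ∈ (S : Subgroup G) →
      s * e1 * s = e1 → s * e2 * s = e2⁻¹ → e1 ^ i * e2 ^ j * e3 ^ k = 1 →
      e1 ^ i = 1 ∧ e2 ^ j = 1 ∧ e3 ^ k = 1 := by
    intro e1 e2 e3 s i j k he1 he2 he3 h12 h13 h23 hs s1 s2 heq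
    have hc23 := mv.comm_lines h he2 he3 h23
    have heq' : e1 ^ i * e2⁻¹ ^ j * (s * e3 * s) ^ k = 1 := by
      have := congrArg (fun z => s * z * s) heq
      rwa [h.s_mul hs, h.s_mul hs, mv.zpow_sign h hs, mv.zpow_sign h hs, mv.zpow_sign h hs, s1, s2, mul_one,
        h.exp s hs] at this
    have hx : e2⁻¹ ^ j * (s * e3 * s) ^ k = e2 ^ j * e3 ^ k := by
      refine mul_left_cancel (a := e1 ^ i) ?_
      rw [← mul_assoc, ← mul_assoc, heq, heq']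
    have hfin : e2 ^ j = 1 → e1 ^ i = 1 ∧ e2 ^ j = 1 ∧ e3 ^ k = 1 := by
      intro h0
      rw [h0, mul_one] at heq
      exact ⟨(mv.pair h he1 he3 h13 heq).1, h0, (mv.pair h he1 he3 h13 heq).2⟩
    rcases he3.sign s hs with s3 | s3
    · rw [s3] at hx
      exact hfin (eq_one_of_inv_eq (mv.odd_X h) (zpow_mem he2.mem j) (by rw [← inv_zpow, mul_right_cancel hx]))
    · rw [s3, inv_zpow, inv_zpow] at hx
      have h0 : e2 ^ j * e3 ^ k = 1 := by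
        refine eq_one_of_inv_eq (mv.odd_X h) (mul_mem (zpow_mem he2.mem j) (zpow_mem he3.mem k)) ?_
        rw [mul_inv_rev, ← ((hc23.zpow_zpow j k).inv_inv).eq, hx]
      exact hfin (mv.pair h he2 he3 h23 h0).1
  obtain ⟨s, hs, h' | h'⟩ := mv.exists_split h he1 he2 h12
  · exact key he1 he2 he3 h12 h13 h23 hs h'.1 h'.2 hijk
  · rw [((mv.comm_lines h he1 he2 h12).zpow_zpow i j).eq] at hijk
    obtain ⟨a, b, c⟩ := key he2 he1 he3 h12.symm h23 h13 hs h'.2 h'.1 hijk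
    exact ⟨b, a, c⟩

theorem eig_order [Fact q.Prime] {e : G} (he : Eig S X e) : orderOf e = q :=
  orderOf_eq_prime (mv.exp e he.mem) he.ne_one

/-- The class of an involution under X. -/
theorem cube_dvd [hq : Fact q.Prime] {a : G} (ha : a ∈ (S : Subgroup G)) (ha1 : a ≠ 1) :
    q ^ 3 ∣ Nat.card {x : G // ∃ d ∈ X, d * a * d⁻¹ = x} := by
  obtain ⟨e1, e2, e3, ⟨E1, a1⟩, ⟨E2, a2⟩, ⟨E3, a3⟩, h12, h13, h23⟩ := mv.lines_moved h ha ha1
  have c12 := mv.comm_lines h E1 E2 h12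
  have c13 := mv.comm_lines h E1 E3 h13
  have c23 := mv.comm_lines h E2 E3 h23
  have s1 := (E1.fix_iff h mv ha).2.1 a1
  have s2 := (E2.fix_iff h mv ha).2.1 a2
  have s3 := (E3.fix_iff h mv ha).2.1 a3
  let f : Fin q × Fin q × Fin q → {x : G // ∃ d ∈ X, d * a * d⁻¹ = x} := fun v =>
    ⟨_, e1 ^ (v.1.1 : ℤ) * e2 ^ (v.2.1.1 : ℤ) * e3 ^ (v.2.2.1 : ℤ),
      mul_mem (mul_mem (zpow_mem E1.mem _) (zpow_mem E2.mem _)) (zpow_mem E3.mem _), rfl⟩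
  have hf : Function.Injective f := by
    rintro ⟨i, j, k⟩ ⟨i', j', k'⟩ hv
    have hv' : e1 ^ (i.1 : ℤ) * e2 ^ (j.1 : ℤ) * e3 ^ (k.1 : ℤ) * a *
        (e1 ^ (i.1 : ℤ) * e2 ^ (j.1 : ℤ) * e3 ^ (k.1 : ℤ))⁻¹ =
      e1 ^ (i'.1 : ℤ) * e2 ^ (j'.1 : ℤ) * e3 ^ (k'.1 : ℤ) * a *
        (e1 ^ (i'.1 : ℤ) * e2 ^ (j'.1 : ℤ) * e3 ^ (k'.1 : ℤ))⁻¹ := congrArg Subtype.val hv
    set g := e1 ^ ((i.1 : ℤ) - i'.1) * e2 ^ ((j.1 : ℤ) - j'.1) * e3 ^ ((k.1 : ℤ) - k'.1) with hg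
    have hgg : e1 ^ (i'.1 : ℤ) * e2 ^ (j'.1 : ℤ) * e3 ^ (k'.1 : ℤ) * g =
        e1 ^ (i.1 : ℤ) * e2 ^ (j.1 : ℤ) * e3 ^ (k.1 : ℤ) := by
      have r1 := (c13.zpow_zpow ((i.1 : ℤ) - i'.1) (k'.1 : ℤ)).eq
      have r2 := (c12.zpow_zpow ((i.1 : ℤ) - i'.1) (j'.1 : ℤ)).eq
      have r3 := (c23.zpow_zpow ((j.1 : ℤ) - j'.1) (k'.1 : ℤ)).eq
      calc e1 ^ (i'.1 : ℤ) * e2 ^ (j'.1 : ℤ) * e3 ^ (k'.1 : ℤ) * g
          = e1 ^ (i'.1 : ℤ) * e2 ^ (j'.1 : ℤ) * (e3 ^ (k'.1 : ℤ) * e1 ^ ((i.1 : ℤ) - i'.1)) *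
              e2 ^ ((j.1 : ℤ) - j'.1) * e3 ^ ((k.1 : ℤ) - k'.1) := by rw [hg]; group
        _ = e1 ^ (i'.1 : ℤ) * (e2 ^ (j'.1 : ℤ) * e1 ^ ((i.1 : ℤ) - i'.1)) *
              (e3 ^ (k'.1 : ℤ) * e2 ^ ((j.1 : ℤ) - j'.1)) * e3 ^ ((k.1 : ℤ) - k'.1) := by rw [← r1]; group
        _ = e1 ^ (i'.1 : ℤ) * (e1 ^ ((i.1 : ℤ) - i'.1) * e2 ^ (j'.1 : ℤ)) *
              (e2 ^ ((j.1 : ℤ) - j'.1) * e3 ^ (k'.1 : ℤ)) * e3 ^ ((k.1 : ℤ) - k'.1) := by rw [← r2, ← r3]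
        _ = _ := by group
    have hga : g * a * g⁻¹ = a := by
      rw [← hgg] at hv'
      have := congrArg (fun z => (e1 ^ (i'.1 : ℤ) * e2 ^ (j'.1 : ℤ) * e3 ^ (k'.1 : ℤ))⁻¹ * z *
        (e1 ^ (i'.1 : ℤ) * e2 ^ (j'.1 : ℤ) * e3 ^ (k'.1 : ℤ))) hv'
      simpa [mul_assoc] using this
    have hfix : a * g * a = g := by
      have e' : g * a = a * g := mul_inv_eq_iff_eq_mul.1 hga
      rw [← e', mul_assoc, h.exp a ha, mul_one]
    have hinv : a * g * a = g⁻¹ := by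
      have r1 := (c12.zpow_zpow ((i.1 : ℤ) - i'.1) ((j.1 : ℤ) - j'.1))
      have r2 := (c13.zpow_zpow ((i.1 : ℤ) - i'.1) ((k.1 : ℤ) - k'.1))
      have r3 := (c23.zpow_zpow ((j.1 : ℤ) - j'.1) ((k.1 : ℤ) - k'.1))
      rw [hg, h.s_mul ha, h.s_mul ha, mv.zpow_sign h ha, mv.zpow_sign h ha, mv.zpow_sign h ha, s1, s2, s3,
        inv_zpow, inv_zpow, inv_zpow, mul_inv_rev, mul_inv_rev, r1.inv_inv.eq, mul_assoc, r2.inv_inv.eq,
        ← mul_assoc, r3.inv_inv.eq, mul_assoc]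
    have hg1 : g = 1 := eq_one_of_inv_eq (mv.odd_X h)
      (mul_mem (mul_mem (zpow_mem E1.mem _) (zpow_mem E2.mem _)) (zpow_mem E3.mem _)) (hinv.symm.trans hfix)
    obtain ⟨z1, z2, z3⟩ := mv.triple h E1 E2 E3 h12 h13 h23 hg1
    have key : ∀ {e : G} (_ : Eig S X e) (i i' : Fin q), e ^ ((i.1 : ℤ) - i'.1) = 1 → i = i' := by
      intro e he i i' hz
      rw [← orderOf_dvd_iff_zpow_eq_one, mv.eig_order h he] at hz
      have hlt : ((i.1 : ℤ) - i'.1).natAbs < q := by omega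
      have := Int.eq_zero_of_dvd_of_natAbs_lt_natAbs hz (by simpa using hlt)
      exact Fin.ext (by omega)
    rw [key E1 i i' z1, key E2 j j' z2, key E3 k k' z3]
  have hge : q ^ 3 ≤ Nat.card {x : G // ∃ d ∈ X, d * a * d⁻¹ = x} := by
    refine le_trans (le_of_eq ?_) (Nat.card_le_card_of_injective f hf)
    rw [Nat.card_prod, Nat.card_prod, Nat.card_fin]
    ring
  obtain ⟨n, hn⟩ := IsPGroup.iff_card.1 mv.pgroup
  obtain ⟨m, -, hm⟩ := (Nat.dvd_prime_pow hq.out).1 (hn ▸ Dvd.intro _ (card_conj X a))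
  rw [hm] at hge ⊢
  exact pow_dvd_pow q ((Nat.pow_le_pow_iff_right hq.out.one_lt).1 hge)

theorem five_le [hq : Fact q.Prime] : 5 ≤ q := by
  obtain ⟨a, ha, ha1, -⟩ := h.exists_three
  have h3 : q ^ 3 ∣ Nat.card G :=
    (mv.cube_dvd h ha ha1).trans ((Dvd.intro _ (card_conj X a)).trans (Subgroup.card_subgroup_dvd_card X))
  have h2 : q ≠ 2 := by
    intro e
    obtain ⟨x, hx⟩ := mv.exists_eig h
    have := orderOf_dvd_natCard (⟨x, hx.mem⟩ : X)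
    rw [Subgroup.orderOf_mk, mv.eig_order h hx, e] at this
    exact mv.odd_X h this
  have h3' : q ≠ 3 := by
    rintro rfl
    exact h.nine ((by norm_num : 9 ∣ 3 ^ 3).trans h3)
  rcases Nat.lt_or_ge q 5 with h' | h'
  · interval_cases q <;> first | omega | exact absurd hq.out (by norm_num)
  · exact h'

/-- The normaliser of Z(J) of a Sylow q-subgroup of M lies in M. -/
theorem base [hq : Fact q.Prime] {T : Subgroup G} (hTM : T ≤ M S) (hT : IsPGroup q T) (hT1 : T ≠ ⊥)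
    (hmax : ∀ R : Subgroup G, R ≤ M S → IsPGroup q R → T ≤ R → R = T) :
    Subgroup.normalizer (fn q T : Set G) ≤ M S := by
  haveI : Fact (Nat.Prime 2) := ⟨Nat.prime_two⟩
  set F := fn q T with hF
  set R := core' q (M S) with hR
  set K := M S ⊓ Subgroup.normalizer (F : Set G) with hK
  have hRodd : ¬ 2 ∣ Nat.card R := by
    intro hd
    obtain ⟨t, ht⟩ := exists_prime_orderOf_dvd_card' 2 hd
    rw [← Subgroup.orderOf_coe] at ht
    have htM : (t : G) ∈ M S := core'_le _ t.2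
    obtain ⟨w, hw, haS, ha1⟩ := h.invol_M htM ht
    have hRc : ∀ {g x : G}, g ∈ M S → x ∈ R → g * x * g⁻¹ ∈ R := fun hg hx =>
      (Subgroup.mem_normalizer_iff.1 (le_normalizer_core' _ hg) _).1 hx
    have haR : w * t * w⁻¹ ∈ R := hRc (Subgroup.mem_sup_left hw) t.2
    obtain ⟨e, he⟩ := mv.exists_eig h
    obtain ⟨s, hs, hse⟩ := he.moved
    have hs1 : s ≠ 1 := fun e' => mv.ne_inv h he.mem he.ne_one (by simpa [e'] using hse.symm)
    obtain ⟨n, hn, hns⟩ := h.transitive haS ha1 hs hs1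
    have hsR : s ∈ R := hns ▸ hRc (Subgroup.mem_sup_right hn) haR
    have heM : e ∈ M S := Subgroup.mem_sup_left (mv.le_W he.mem)
    have h1 : s * e * s⁻¹ * e⁻¹ ∈ R := by
      simpa [mul_assoc] using mul_mem hsR (hRc heM (inv_mem hsR))
    have h2 : s * e * s⁻¹ * e⁻¹ ∈ X :=
      mul_mem ((Subgroup.mem_normalizer_iff.1 (mv.normal (h.S_le_M hs)) e).1 he.mem) (inv_mem he.mem)
    have h3 := eq_one_of_card_coprime (not_dvd_core' (M S)) mv.pgroup h1 h2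
    rw [h.inv_eq hs, hse, mul_eq_one_iff_eq_inv, inv_inv] at h3
    exact mv.ne_inv h he.mem he.ne_one h3
  have hKN : K ≤ Subgroup.normalizer (R : Set G) := inf_le_left.trans (le_normalizer_core' _)
  have hsup : M S ≤ R ⊔ K :=
    le_of_core'_of_normalizer (mv.five_le h) (h.solv _ h.M_ne_top) hTM hT hmax le_sup_left le_sup_right
  have hKM : K ≤ M S := inf_le_left
  have h8 : 8 ∣ Nat.card K := by
    have h1 : 8 ∣ Nat.card ↥(R ⊔ K) :=
      (h.card ▸ Subgroup.card_dvd_of_le h.S_le_M : 8 ∣ Nat.card (M S)).trans (Subgroup.card_dvd_of_le hsup)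
    have h2 : Nat.card ↥(R ⊔ K) ∣ Nat.card R * Nat.card K := by
      have e1 := WielandtOrder.card_mul_set R K
      rw [← Subgroup.coe_mul_of_right_le_normalizer_left _ _ hKN] at e1
      exact Dvd.intro _ e1
    refine Nat.Coprime.dvd_of_dvd_mul_left ?_ (h1.trans h2)
    rw [show (8 : ℕ) = 2 ^ 3 by norm_num]
    exact Nat.Coprime.pow_left 3 ((Nat.Prime.coprime_iff_not_dvd Nat.prime_two).2 hRodd)
  obtain ⟨U, hU⟩ := Sylow.exists_subgroup_card_pow_prime (G := K) 2 (n := 3) (by simpa using h8)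
  set U' := U.map K.subtype with hU'
  have hU'c : Nat.card U' = 8 := by rw [hU', Subgroup.card_map_of_injective K.subtype_injective, hU]; norm_num
  have hU'K : U' ≤ K := Subgroup.map_subtype_le _
  obtain ⟨w, hw, hUw⟩ := h.conj_two (hU'K.trans hKM) (IsPGroup.of_card (n := 3) (by rw [hU'c]; norm_num))
  have hUeq : U'.map (MulAut.conj w).toMonoidHom = (S : Subgroup G) := by
    refine Subgroup.eq_of_le_of_card_ge (by rintro _ ⟨x, hx, rfl⟩; exact hUw x hx) (le_of_eq ?_)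
    rw [h.card, Subgroup.card_map_of_injective (K := U') (f := (MulAut.conj w).toMonoidHom) (MulAut.conj w).injective,
      hU'c]
  obtain ⟨a, ha, ha1, b, hb, hb1, hab⟩ := h.exists_three
  obtain ⟨x, hx, rfl⟩ := hUeq.ge ha
  obtain ⟨y, hy, rfl⟩ := hUeq.ge hb
  simp only [MulEquiv.coe_toMonoidHom, MulAut.conj_apply] at ha ha1 hb hb1 hab
  have hF1 : F ≠ ⊥ := fn_ne_bot hT hT1
  refine h.uniq4 (h.normalizer_ne_top hF1 fun e' => h.M_ne_top (top_le_iff.1 (e' ▸ (fn_le T).trans hTM)))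
    (x := x) (y := y) (Subgroup.mem_inf.1 (hU'K hx)).2 (Subgroup.mem_inf.1 (hU'K hy)).2
    (hU'K.trans hKM hx) (hU'K.trans hKM hy) ?_ ?_ (fun e' => hab (by rw [e'])) ?_
  · rw [← Invol.order_conj w x]; exact h.order2 ha ha1
  · rw [← Invol.order_conj w y]; exact h.order2 hb hb1
  · have hc := h.comm ha hb
    calc x * y = w⁻¹ * ((w * x * w⁻¹) * (w * y * w⁻¹)) * w := by group
      _ = _ := by rw [hc]; group

/-- Uniqueness by descending induction. -/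
theorem good [hq : Fact q.Prime] (Wt : Set G)
    (h1 : ∀ H : Subgroup G, H ≠ ⊤ → Wt ⊆ H → core' q H ≤ M S)
    (h2 : ∀ H : Subgroup G, H ≠ ⊤ → Wt ⊆ H → H ≤ M S ∨ ∃ T : Subgroup G, T ≤ H ⊓ M S ∧ IsPGroup q T ∧ T ≠ ⊥ ∧
      Wt ⊆ Subgroup.normalizer (T : Set G) ∧
      ∀ R : Subgroup G, R ≤ H ⊓ M S → IsPGroup q R → Nat.card R ≤ Nat.card T) :
    ∀ H : Subgroup G, H ≠ ⊤ → Wt ⊆ H → H ≤ M S := by
  suffices key : ∀ n : ℕ, ∀ H : Subgroup G, H ≠ ⊤ → Wt ⊆ H → ∀ T : Subgroup G, T ≤ H ⊓ M S → IsPGroup q T →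
      T ≠ ⊥ → Wt ⊆ Subgroup.normalizer (T : Set G) →
      (∀ R : Subgroup G, R ≤ H ⊓ M S → IsPGroup q R → Nat.card R ≤ Nat.card T) →
      Nat.card G - Nat.card T = n → H ≤ M S by
    intro H hH hW
    rcases h2 H hH hW with hle | ⟨T, hT, hTp, hT1, hTW, hTmax⟩
    · exact hle
    · exact key _ H hH hW T hT hTp hT1 hTW hTmax rfl
  intro n
  induction n using Nat.strong_induction_on with
  | _ n ih =>
  intro H hH hW T hT hTp hT1 hTW hTmax hn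
  have hTM : T ≤ M S := hT.trans inf_le_right
  have hTH : T ≤ H := hT.trans inf_le_left
  set NF := Subgroup.normalizer (fn q T : Set G) with hNF
  have grow : ∀ R : Subgroup G, IsPGroup q R → T < R →
      ∃ R2 : Subgroup G, R2 ≤ R ∧ R2 ≤ Subgroup.normalizer (T : Set G) ∧ T < R2 := by
    intro R hR hTR
    have := hR.isNilpotent
    have hlt : T.subgroupOf R < ⊤ := lt_top_iff_ne_top.2 fun e => hTR.not_ge (Subgroup.subgroupOf_eq_top.1 e)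
    obtain ⟨g, hg, hgn⟩ := SetLike.exists_of_lt (Group.normalizerCondition_of_isNilpotent _ hlt)
    refine ⟨T ⊔ Subgroup.zpowers (g : G), sup_le hTR.le (Subgroup.zpowers_le.2 g.2),
      sup_le Subgroup.le_normalizer (Subgroup.zpowers_le.2 ?_), lt_of_le_not_ge le_sup_left fun hle => hgn ?_⟩
    · rw [Subgroup.mem_normalizer_iff]
      intro x
      constructor
      · intro hx
        exact ((Subgroup.mem_normalizer_iff.1 hg) ⟨x, hTR.le hx⟩).1 hx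
      · intro hx
        have hxR : x ∈ R := by
          simpa [mul_assoc] using mul_mem (mul_mem (inv_mem g.2) (hTR.le hx)) g.2
        exact ((Subgroup.mem_normalizer_iff.1 hg) ⟨x, hxR⟩).2 hx
    · exact Subgroup.mem_subgroupOf.2 (hle (Subgroup.mem_sup_right (Subgroup.mem_zpowers _)))
  have hNFM : NF ≤ M S := by
    by_cases hmax : ∀ R : Subgroup G, R ≤ M S → IsPGroup q R → T ≤ R → R = T
    · exact mv.base h hTM hTp hT1 hmax
    · push_neg at hmax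
      obtain ⟨R, hRM, hR, hTR, hne⟩ := hmax
      obtain ⟨R2, hR2R, hR2N, hTR2⟩ := grow R hR (lt_of_le_of_ne hTR hne.symm)
      have hNFtop : NF ≠ ⊤ := h.normalizer_ne_top (fn_ne_bot hTp hT1)
        fun e => h.M_ne_top (top_le_iff.1 (e ▸ (fn_le T).trans hTM))
      have hWNF : Wt ⊆ NF := hTW.trans (normalizer_le_fn T)
      rcases h2 NF hNFtop hWNF with hle | ⟨T2, hT2, hT2p, hT21, hT2W, hT2max⟩
      · exact hle
      have hbig : Nat.card T < Nat.card T2 := lt_of_lt_of_le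
        (lt_of_not_ge fun hle => hTR2.ne (Subgroup.eq_of_le_of_card_ge hTR2.le hle))
        (hT2max R2 (le_inf (hR2N.trans (normalizer_le_fn T)) (hR2R.trans hRM)) (hR.to_le hR2R))
      have hlt : Nat.card G - Nat.card T2 < n := by
        have := Subgroup.card_le_card_group T2
        omega
      exact ih _ hlt NF hNFtop hWNF T2 hT2 hT2p hT21 hT2W hT2max rfl
  refine le_of_core'_of_normalizer (mv.five_le h) (h.solv H hH) hTH hTp (fun R hRH hR hTR => ?_) (h1 H hH hW)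
    (inf_le_right.trans hNFM)
  by_contra hne
  obtain ⟨R2, hR2R, hR2N, hTR2⟩ := grow R hR (lt_of_le_of_ne hTR (Ne.symm hne))
  exact hTR2.ne (Subgroup.eq_of_le_of_card_ge hTR2.le
    (hTmax R2 (le_inf (hR2R.trans hRH) (hR2N.trans ((normalizer_le_fn T).trans hNFM))) (hR.to_le hR2R)))

end Mov

end Cfsg.Agent.EightSylow
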