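import Cfsg.Agent.Lib.EightSylow.Functor
import Cfsg.Agent.Lib.Solvable.Coprime
import Cfsg.Agent.Lib.Transfer.Basic
import Cfsg.Agent.Lib.Transfer.Fusion
import Cfsg.Agent.Lib.Involutions.SwapCount
import Cfsg.Agent.S0018
import Cfsg.Agent.S0217
import Cfsg.Agent.S0223

/-!
A simple group with solvable proper subgroups, an elementary Sylow 2-subgroup S of order 8 and 2-nilpotent
involution centralisers: the cores generate an odd subgroup W, and M = W N(S) is strongly embedded.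
-/

set_option autoImplicit false
set_option linter.style.haveILetI false
set_option linter.unusedSectionVars false

namespace Cfsg.Agent.EightSylow

variable {G : Type*} [Group G] [Finite G]

/-- The centraliser of one element. -/
abbrev C (a : G) : Subgroup G := Subgroup.centralizer ({a} : Set G)

theorem mem_C {a g : G} : g ∈ C a ↔ g * a = a * g := Subgroup.mem_centralizer_singleton_iff

theorem conj_eq_iff_mem_C {a g : G} : g * a * g⁻¹ = a ↔ g ∈ C a := by
  rw [mem_C, mul_inv_eq_iff_eq_mul]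

/-- The number of conjugates under a subgroup. -/
theorem card_conj (D : Subgroup G) (a : G) :
    Nat.card {x : G // ∃ d ∈ D, d * a * d⁻¹ = x} * Nat.card ↥(D ⊓ C a) = Nat.card D := by
  have h := Subgroup.index_mul_card ((D ⊓ C a).subgroupOf D)
  rw [Nat.card_congr (Subgroup.subgroupOfEquivOfLe (inf_le_left : D ⊓ C a ≤ D)).toEquiv] at h
  have key : ∀ x y : D, (QuotientGroup.leftRel ((D ⊓ C a).subgroupOf D)).r x y ↔
      (x : G) * a * (x : G)⁻¹ = (y : G) * a * (y : G)⁻¹ := by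
    intro x y
    rw [QuotientGroup.leftRel_apply, Subgroup.mem_subgroupOf, Subgroup.coe_mul, Subgroup.coe_inv,
      Subgroup.mem_inf, and_iff_right (D.mul_mem (D.inv_mem x.2) y.2), ← conj_eq_iff_mem_C]
    constructor
    · intro e
      calc (x : G) * a * (x : G)⁻¹
          = (x : G) * ((x : G)⁻¹ * (y : G) * a * ((x : G)⁻¹ * (y : G))⁻¹) * (x : G)⁻¹ := by rw [e]
        _ = _ := by group
    · intro e
      calc (x : G)⁻¹ * (y : G) * a * ((x : G)⁻¹ * (y : G))⁻¹
          = (x : G)⁻¹ * ((y : G) * a * (y : G)⁻¹) * (x : G) := by group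
        _ = a := by rw [← e]; group
  let f : D ⧸ (D ⊓ C a).subgroupOf D → {x : G // ∃ d ∈ D, d * a * d⁻¹ = x} :=
    Quotient.lift (fun d => ⟨(d : G) * a * (d : G)⁻¹, d, d.2, rfl⟩)
      (fun x y hxy => Subtype.ext ((key x y).1 hxy))
  have hf : Function.Bijective f := by
    constructor
    · intro u v
      induction u using Quotient.inductionOn with
      | _ x =>
        induction v using Quotient.inductionOn with
        | _ y => exact fun huv => Quotient.sound ((key x y).2 (Subtype.ext_iff.1 huv))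
    · rintro ⟨x, d, hd, rfl⟩
      exact ⟨QuotientGroup.mk ⟨d, hd⟩, rfl⟩
  rw [← h, Subgroup.index, Nat.card_congr (Equiv.ofBijective f hf)]

theorem not_isCyclic_of_klein {V : Subgroup G} {x y : G} (hx : x ∈ V) (hy : y ∈ V) (hxo : orderOf x = 2)
    (hyo : orderOf y = 2) (hne : x ≠ y) : ¬ IsCyclic V := fun h => by
  haveI := h
  classical
  letI := Fintype.ofFinite V
  have h3 : ({1, ⟨x, hx⟩, ⟨y, hy⟩} : Finset V).card = 3 := by
    have hx1 : x ≠ 1 := fun e => by rw [e, orderOf_one] at hxo; omega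
    have hy1 : y ≠ 1 := fun e => by rw [e, orderOf_one] at hyo; omega
    refine Finset.card_eq_three.2 ⟨_, _, _, ?_, ?_, ?_, rfl⟩
    · exact fun e => hx1 (congrArg Subtype.val e).symm
    · exact fun e => hy1 (congrArg Subtype.val e).symm
    · exact fun e => hne (congrArg Subtype.val e)
  have h2 := IsCyclic.card_pow_eq_one_le (α := V) (n := 2) two_pos
  have hsub : ({1, ⟨x, hx⟩, ⟨y, hy⟩} : Finset V) ⊆ Finset.univ.filter (fun u : V => u ^ 2 = 1) := by
    intro u hu
    simp only [Finset.mem_insert, Finset.mem_singleton] at hu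
    rw [Finset.mem_filter]
    refine ⟨Finset.mem_univ _, ?_⟩
    rcases hu with rfl | rfl | rfl
    · rw [one_pow]
    · exact Subtype.ext (by rw [SubmonoidClass.coe_pow]; exact hxo ▸ pow_orderOf_eq_one x)
    · exact Subtype.ext (by rw [SubmonoidClass.coe_pow]; exact hyo ▸ pow_orderOf_eq_one y)
  have := Finset.card_le_card hsub
  omega

/-- The hypotheses. -/
structure Hyp (S : Sylow 2 G) : Prop where
  simple : IsSimpleGroup G
  nonab : ¬ IsMulCommutative G
  solv : ∀ H : Subgroup G, H ≠ ⊤ → Group.IsSolvable H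
  card : Nat.card (S : Subgroup G) = 8
  exp : ∀ x ∈ (S : Subgroup G), x * x = 1
  nine : ¬ 9 ∣ Nat.card G
  npc : ∀ t : G, orderOf t = 2 → Cfsg.HasNormalPComplement 2 (C t)

/-- The odd core of a centraliser. -/
def theta (a : G) : Subgroup G := core' 2 (C a)

/-- The subgroup generated by the cores. -/
def W (S : Sylow 2 G) : Subgroup G := ⨆ a : {a : G // a ∈ (S : Subgroup G) ∧ a ≠ 1}, theta (a : G)

/-- W N(S). -/
def M (S : Sylow 2 G) : Subgroup G := W S ⊔ Subgroup.normalizer ((S : Subgroup G) : Set G)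

theorem theta_le (a : G) : theta a ≤ C a := core'_le _

theorem theta_not_dvd (a : G) : ¬ 2 ∣ Nat.card (theta a) :=
  haveI : Fact (Nat.Prime 2) := ⟨Nat.prime_two⟩
  not_dvd_core' _

theorem conj_mem_theta (a g x : G) (hx : x ∈ theta a) : g * x * g⁻¹ ∈ theta (g * a * g⁻¹) := by
  set e := (MulAut.conj g).toMonoidHom with he
  have hmap : ∀ c : G, c ∈ C a → e c ∈ C (g * a * g⁻¹) := fun c hc => by
    rw [mem_C] at hc ⊢
    calc e c * (g * a * g⁻¹) = g * (c * a) * g⁻¹ := by simp [he, mul_assoc]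
      _ = _ := by rw [hc]; simp [he, mul_assoc]
  have hinv : ∀ c : G, c ∈ C (g * a * g⁻¹) → g⁻¹ * c * g ∈ C a := fun c hc => by
    rw [mem_C] at hc ⊢
    calc g⁻¹ * c * g * a = g⁻¹ * (c * (g * a * g⁻¹)) * g := by group
      _ = _ := by rw [hc]; group
  let E : C a →* C (g * a * g⁻¹) := (e.comp (C a).subtype).codRestrict _ (fun c => hmap c c.2)
  have hE : Function.Surjective E := fun c => ⟨⟨g⁻¹ * (c : G) * g, hinv c c.2⟩, Subtype.ext (by
    simp [E, he, mul_assoc])⟩
  obtain ⟨y, hy, rfl⟩ := hx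
  haveI : Fact (Nat.Prime 2) := ⟨Nat.prime_two⟩
  refine ⟨E y, FittingCores.le_pPrimeCore ((FittingCores.pPrimeCore_normal 2).map E hE) ?_
    (Subgroup.mem_map_of_mem E hy), rfl⟩
  exact (PBasic.pPrimeCore_coprime 2 _).coprime_dvd_left (Subgroup.card_map_dvd _ E)

theorem pGroup_of_sq {U : Subgroup G} (h : ∀ x ∈ U, x * x = 1) : IsPGroup 2 U := fun x =>
  ⟨1, Subtype.ext (by simpa [pow_two] using h x x.2)⟩

theorem eq_one_of_odd_two {H U : Subgroup G} (hH : ¬ 2 ∣ Nat.card H) (hU : IsPGroup 2 U) {x : G}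
    (h1 : x ∈ H) (h2 : x ∈ U) : x = 1 := by
  haveI : Fact (Nat.Prime 2) := ⟨Nat.prime_two⟩
  obtain ⟨k, hk⟩ := IsPGroup.iff_orderOf.1 hU ⟨x, h2⟩
  rw [Subgroup.orderOf_mk] at hk
  have h := orderOf_dvd_natCard (⟨x, h1⟩ : H)
  rw [Subgroup.orderOf_mk, hk] at h
  rcases Nat.eq_zero_or_pos k with rfl | hk0
  · rwa [pow_zero, orderOf_eq_one_iff] at hk
  · exact absurd ((dvd_pow_self 2 hk0.ne').trans h) hH

namespace Hyp

variable {S : Sylow 2 G} (h : Hyp S)
include h

theorem inv_eq {x : G} (hx : x ∈ (S : Subgroup G)) : x⁻¹ = x := inv_eq_of_mul_eq_one_right (h.exp x hx)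

theorem comm {x y : G} (hx : x ∈ (S : Subgroup G)) (hy : y ∈ (S : Subgroup G)) : x * y = y * x := by
  calc x * y = (x * y)⁻¹ := (h.inv_eq ((S : Subgroup G).mul_mem hx hy)).symm
    _ = _ := by rw [mul_inv_rev, h.inv_eq hx, h.inv_eq hy]

theorem isMulCommutative : IsMulCommutative (S : Subgroup G) :=
  ⟨⟨fun x y => Subtype.ext (h.comm x.2 y.2)⟩⟩

theorem order2 {x : G} (hx : x ∈ (S : Subgroup G)) (h1 : x ≠ 1) : orderOf x = 2 := by
  haveI : Fact (Nat.Prime 2) := ⟨Nat.prime_two⟩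
  exact orderOf_eq_prime (by rw [pow_two]; exact h.exp x hx) h1

theorem S_le_C {a : G} (ha : a ∈ (S : Subgroup G)) : (S : Subgroup G) ≤ C a := fun _ hx =>
  mem_C.2 (h.comm hx ha)

theorem C_ne_top {a : G} (ha : a ≠ 1) : C a ≠ ⊤ := fun e => by
  haveI := h.simple
  have hc : a ∈ Subgroup.center G := Subgroup.mem_center_iff.2 fun g => mem_C.1 (e ▸ Subgroup.mem_top g)
  rcases (inferInstance : (Subgroup.center G).Normal).eq_bot_or_eq_top with e1 | e1
  · exact ha (Subgroup.mem_bot.1 (e1 ▸ hc))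
  · exact h.nonab ⟨⟨fun x y => Subgroup.mem_center_iff.1 (e1 ▸ Subgroup.mem_top y) x⟩⟩

theorem normalizer_ne_top {H : Subgroup G} (h1 : H ≠ ⊥) (h2 : H ≠ ⊤) : Subgroup.normalizer (H : Set G) ≠ ⊤ :=
  fun e => by
    haveI := h.simple
    rcases (Subgroup.normalizer_eq_top_iff.1 e).eq_bot_or_eq_top with e1 | e1
    exacts [h1 e1, h2 e1]

theorem two_dvd_card : 2 ∣ Nat.card G :=
  (by norm_num [h.card] : 2 ∣ Nat.card (S : Subgroup G)).trans (Subgroup.card_subgroup_dvd_card _)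

theorem mem_theta {a : G} (ha : a ∈ (S : Subgroup G)) (h1 : a ≠ 1) {x : G} (hx : x ∈ C a)
    (ho : Odd (orderOf x)) : x ∈ theta a := by
  haveI : Fact (Nat.Prime 2) := ⟨Nat.prime_two⟩
  have hn := h.npc a (h.order2 ha h1)
  refine ⟨⟨x, hx⟩, ?_, rfl⟩
  rw [SetLike.mem_coe, PBasic.pPrimeCore_eq_pResidual hn]
  refine PBasic.mem_pResidual ?_
  rw [Subgroup.orderOf_mk]
  exact Nat.coprime_two_right.2 ho

theorem C_decomp {a : G} (ha : a ∈ (S : Subgroup G)) (h1 : a ≠ 1) {g : G} (hg : g ∈ C a) :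
    ∃ w ∈ theta a, ∃ s ∈ (S : Subgroup G), g = w * s := by
  haveI : Fact (Nat.Prime 2) := ⟨Nat.prime_two⟩
  have hinf : theta a ⊓ (S : Subgroup G) = ⊥ := eq_bot_iff.2 fun x hx =>
    Subgroup.mem_bot.2 (eq_one_of_odd_two (theta_not_dvd a) S.isPGroup' hx.1 hx.2)
  have hSN : (S : Subgroup G) ≤ Subgroup.normalizer (theta a : Set G) :=
    (h.S_le_C ha).trans (le_normalizer_core' _)
  have hle : theta a ⊔ (S : Subgroup G) ≤ C a := sup_le (theta_le a) (h.S_le_C ha)
  have hcard : Nat.card ↥(theta a ⊔ (S : Subgroup G)) = Nat.card (theta a) * 8 := by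
    rw [SolvBasic.card_sup_of_inf_eq_bot hSN hinf, h.card]
  obtain ⟨k, hk⟩ := IsPGroup.iff_card.1 (PBasic.quotient_pPrimeCore_isPGroup (h.npc a (h.order2 ha h1)))
  have hC : Nat.card (C a) = Nat.card (theta a) * 2 ^ k := by
    rw [← Subgroup.card_mul_index (Cfsg.pPrimeCore 2 (C a)), theta, core',
      Subgroup.card_map_of_injective (C a).subtype_injective, Subgroup.index, hk]
  have hk8 : 2 ^ k ∣ 8 := by
    have h3 : 2 ^ k ∣ 8 * (S : Subgroup G).index := by
      rw [← h.card, Subgroup.card_mul_index]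
      exact (Dvd.intro_left _ hC.symm).trans (Subgroup.card_subgroup_dvd_card _)
    refine Nat.Coprime.dvd_of_dvd_mul_right (Nat.Coprime.pow_left k ?_) h3
    exact (Nat.Prime.coprime_iff_not_dvd Nat.prime_two).2 S.not_dvd_index
  have heq : theta a ⊔ (S : Subgroup G) = C a := by
    refine Subgroup.eq_of_le_of_card_ge hle ?_
    rw [hcard, hC]
    exact Nat.mul_le_mul_left _ (Nat.le_of_dvd (by norm_num) hk8)
  have hg' : g ∈ ((theta a ⊔ (S : Subgroup G) : Subgroup G) : Set G) := heq.symm ▸ hg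
  rw [Subgroup.coe_mul_of_right_le_normalizer_left _ _ hSN] at hg'
  obtain ⟨w, hw, s, hs, rfl⟩ := hg'
  exact ⟨w, hw, s, hs, rfl⟩

theorem fix_of_odd {H : Subgroup G} (hH : ¬ 2 ∣ Nat.card H) (hS : (S : Subgroup G) ≤ Subgroup.normalizer (H : Set G))
    {w : G} (hw : w ∈ H) (hn : w ∈ Subgroup.normalizer ((S : Subgroup G) : Set G)) {s : G}
    (hs : s ∈ (S : Subgroup G)) : w * s = s * w := by
  have h1 : w * s * w⁻¹ * s⁻¹ ∈ (S : Subgroup G) :=
    mul_mem ((Subgroup.mem_normalizer_iff.1 hn s).1 hs) (inv_mem hs)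
  have h2 : w * s * w⁻¹ * s⁻¹ ∈ H := by
    have : s * w⁻¹ * s⁻¹ ∈ H := (Subgroup.mem_normalizer_iff.1 (hS hs) _).1 (inv_mem hw)
    simpa [mul_assoc] using mul_mem hw this
  have := eq_one_of_odd_two hH S.isPGroup' h2 h1
  rwa [mul_inv_eq_one, mul_inv_eq_iff_eq_mul] at this

/-- The automiser of S acts semiregularly on involutions. -/
theorem free {n a : G} (hn : n ∈ Subgroup.normalizer ((S : Subgroup G) : Set G)) (ha : a ∈ (S : Subgroup G))
    (h1 : a ≠ 1) (hfix : n * a * n⁻¹ = a) {s : G} (hs : s ∈ (S : Subgroup G)) : n * s = s * n := by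
  obtain ⟨w, hw, s0, hs0, rfl⟩ := h.C_decomp ha h1 (conj_eq_iff_mem_C.1 hfix)
  have hwn : w ∈ Subgroup.normalizer ((S : Subgroup G) : Set G) := by
    simpa using mul_mem hn (Subgroup.le_normalizer (inv_mem hs0))
  have hc := h.fix_of_odd (theta_not_dvd a) ((h.S_le_C ha).trans (le_normalizer_core' _)) hw hwn hs
  rw [mul_assoc, h.comm hs0 hs, ← mul_assoc, hc, mul_assoc]

/-- N(S) is transitive on the involutions of S. -/
theorem transitive {a b : G} (ha : a ∈ (S : Subgroup G)) (ha1 : a ≠ 1) (hb : b ∈ (S : Subgroup G)) (hb1 : b ≠ 1) :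
    ∃ n ∈ Subgroup.normalizer ((S : Subgroup G) : Set G), n * a * n⁻¹ = b := by
  classical
  haveI : Fact (Nat.Prime 2) := ⟨Nat.prime_two⟩
  set N := Subgroup.normalizer ((S : Subgroup G) : Set G) with hN
  let X := {x : G // x ∈ (S : Subgroup G) ∧ x ≠ 1}
  letI act : MulAction N X :=
    { smul := fun n x => ⟨(n : G) * x.1 * (n : G)⁻¹, (Subgroup.mem_normalizer_iff.1 n.2 _).1 x.2.1,
        fun e => x.2.2 (conj_eq_one_iff.1 e)⟩
      one_smul := fun x => Subtype.ext (by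
        show ((1 : N) : G) * x.1 * ((1 : N) : G)⁻¹ = x.1
        simp)
      mul_smul := fun m n x => Subtype.ext (by
        show ((m * n : N) : G) * x.1 * ((m * n : N) : G)⁻¹ = (m : G) * ((n : G) * x.1 * (n : G)⁻¹) * (m : G)⁻¹
        simp [mul_assoc]) }
  have hX : Nat.card X = 7 := by
    have h1 : Nat.card {x : (S : Subgroup G) // x ≠ 1} = 7 := by
      have := Nat.card_congr (Equiv.optionSubtypeNe (1 : (S : Subgroup G)))
      rw [Finite.card_option, h.card] at this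
      omega
    rw [← h1]
    exact Nat.card_congr ⟨fun x => ⟨⟨x.1, x.2.1⟩, fun e => x.2.2 (congrArg Subtype.val e)⟩,
      fun x => ⟨x.1.1, x.1.2, fun e => x.2 (Subtype.ext e)⟩, fun _ => rfl, fun _ => rfl⟩
  set K := (Subgroup.centralizer ((S : Subgroup G) : Set G)).subgroupOf N with hK
  have hstab : ∀ x : X, MulAction.stabilizer N x = K := by
    intro x
    ext n
    rw [MulAction.mem_stabilizer_iff, hK, Subgroup.mem_subgroupOf, Subgroup.mem_centralizer_iff]
    constructor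
    · exact fun e s hs => (h.free n.2 x.2.1 x.2.2 (congrArg Subtype.val e) hs).symm
    · exact fun e => Subtype.ext (mul_inv_eq_iff_eq_mul.2 (e _ x.2.1).symm)
  have horb : ∀ x : X, Nat.card (MulAction.orbit N x) = K.index := fun x => by
    rw [← hstab x, MulAction.index_stabilizer]
    exact Nat.card_coe_set_eq _
  have hdvd : K.index ∣ 7 := by
    letI := Fintype.ofFinite (MulAction.orbitRel.Quotient N X)
    rw [← hX, Nat.card_congr (MulAction.selfEquivSigmaOrbits N X), Nat.card_sigma]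
    exact Finset.dvd_sum fun ω _ => (horb _).symm ▸ dvd_rfl
  have hne : K.index ≠ 1 := by
    intro e
    have hle : N ≤ Subgroup.centralizer ((S : Subgroup G) : Set G) :=
      Subgroup.subgroupOf_eq_top.1 (Subgroup.index_eq_one.1 e)
    obtain ⟨P, T, hT, hc⟩ := Fusion.hasNormalPComplement_of_normalizer_le_centralizer S hle
    haveI := h.simple
    have hcard := hc.card_mul
    have hP : Nat.card (P : Subgroup G) = 8 := by
      rw [Nat.card_congr (Sylow.equiv P S).toEquiv, h.card]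
    rcases hT.eq_bot_or_eq_top with e1 | e1
    · subst e1
      haveI := h.isMulCommutative
      rw [Subgroup.card_bot, one_mul] at hcard
      have htop : (S : Subgroup G) = ⊤ := Subgroup.eq_top_of_card_eq _ (by rw [h.card, ← hP, hcard])
      refine h.nonab ⟨⟨fun x y => h.comm ?_ ?_⟩⟩ <;> rw [htop] <;> exact Subgroup.mem_top _
    · subst e1
      rw [Subgroup.card_top, hP] at hcard
      have := Nat.card_pos (α := G)
      omega
  have h7 : K.index = 7 := ((Nat.dvd_prime (by norm_num)).1 hdvd).resolve_left hne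
  have huniv : MulAction.orbit N (⟨a, ha, ha1⟩ : X) = Set.univ := by
    refine Set.eq_of_subset_of_ncard_le (Set.subset_univ _) ?_ (Set.toFinite _)
    rw [Set.ncard_univ, hX, ← Nat.card_coe_set_eq, horb, h7]
  obtain ⟨n, hn⟩ := huniv.ge (Set.mem_univ (⟨b, hb, hb1⟩ : X))
  exact ⟨n, n.2, congrArg Subtype.val hn⟩

theorem exists_three : ∃ a ∈ (S : Subgroup G), a ≠ 1 ∧ ∃ b ∈ (S : Subgroup G), b ≠ 1 ∧ a ≠ b := by
  have hc : 3 ≤ Nat.card (S : Subgroup G) := by rw [h.card]; norm_num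
  haveI : Nontrivial (S : Subgroup G) := Finite.one_lt_card_iff_nontrivial.1 (by omega)
  obtain ⟨a, ha⟩ := exists_ne (1 : (S : Subgroup G))
  obtain ⟨b, hb1, hba⟩ : ∃ b : (S : Subgroup G), b ≠ 1 ∧ b ≠ a := by
    by_contra hcon
    push_neg at hcon
    have hu : (Set.univ : Set (S : Subgroup G)) ⊆ {1, a} := fun x _ => by
      by_cases hx : x = 1
      · exact Or.inl hx
      · exact Or.inr (hcon x hx)
    have := Set.ncard_le_ncard hu (Set.toFinite _)
    have h2 := Set.ncard_insert_le (1 : (S : Subgroup G)) {a}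
    rw [Set.ncard_univ, Set.ncard_singleton] at *
    omega
  exact ⟨a, a.2, fun e => ha (Subtype.ext e), b, b.2, fun e => hb1 (Subtype.ext e),
    fun e => hba (Subtype.ext e.symm)⟩

theorem W_data : ¬ 2 ∣ Nat.card (W S) ∧ ∀ a ∈ (S : Subgroup G), a ≠ 1 → W S ⊓ C a = theta a := by
  haveI : Fact (Nat.Prime 2) := ⟨Nat.prime_two⟩
  refine S0217.result (p := 2) (S : Subgroup G) (fun x hx y hy => h.comm hx hy)
    (fun x hx => by rw [pow_two]; exact h.exp x hx) (by rw [h.card]; norm_num) theta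
    (fun a _ _ => theta_le a) (fun a _ _ => theta_not_dvd a) ?_ ?_ ?_
  · intro a ha _ b hb x hx
    have := conj_mem_theta a b x hx
    rwa [conj_eq_iff_mem_C.2 (h.S_le_C ha hb)] at this
  · intro a _ h1
    haveI := h.solv _ (h.C_ne_top h1)
    exact Group.isSolvable_of_isSolvable_injective (f := Subgroup.inclusion (theta_le a))
      (Subgroup.inclusion_injective _)
  · intro a _ _ b hb hb1 x hx
    refine h.mem_theta hb hb1 hx.2 ?_
    have hd := orderOf_dvd_natCard (⟨x, hx.1⟩ : theta a)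
    rw [Subgroup.orderOf_mk] at hd
    rw [← Nat.not_even_iff_odd, even_iff_two_dvd]
    exact fun e => theta_not_dvd a (e.trans hd)

theorem W_odd : ¬ 2 ∣ Nat.card (W S) := h.W_data.1

theorem W_inf_C {a : G} (ha : a ∈ (S : Subgroup G)) (h1 : a ≠ 1) : W S ⊓ C a = theta a := h.W_data.2 a ha h1

theorem N_le_W : Subgroup.normalizer ((S : Subgroup G) : Set G) ≤ Subgroup.normalizer (W S : Set G) := by
  intro n hn
  have key : ∀ n ∈ Subgroup.normalizer ((S : Subgroup G) : Set G),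
      (W S).map (MulAut.conj n).toMonoidHom ≤ W S := by
    intro n hn
    rw [W, Subgroup.map_iSup]
    refine iSup_le fun a => ?_
    rintro _ ⟨x, hx, rfl⟩
    exact le_iSup (fun b : {a : G // a ∈ (S : Subgroup G) ∧ a ≠ 1} => theta (b : G))
      ⟨n * (a : G) * n⁻¹, (Subgroup.mem_normalizer_iff.1 hn _).1 a.2.1, fun e => a.2.2 (conj_eq_one_iff.1 e)⟩
      (conj_mem_theta _ n x hx)
  refine Subgroup.mem_normalizer_iff.2 fun x => ⟨fun hx => key n hn ⟨x, hx, rfl⟩, fun hx => ?_⟩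
  have := key n⁻¹ (inv_mem hn) ⟨_, hx, rfl⟩
  simpa [mul_assoc] using this

theorem S_le_NW : (S : Subgroup G) ≤ Subgroup.normalizer (W S : Set G) := Subgroup.le_normalizer.trans h.N_le_W

theorem S_le_M : (S : Subgroup G) ≤ M S := Subgroup.le_normalizer.trans le_sup_right

theorem M_le_NW : M S ≤ Subgroup.normalizer (W S : Set G) := sup_le Subgroup.le_normalizer h.N_le_W

theorem mem_M {g : G} (hg : g ∈ M S) :
    ∃ w ∈ W S, ∃ n ∈ Subgroup.normalizer ((S : Subgroup G) : Set G), g = w * n := by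
  have hg' : g ∈ ((W S ⊔ Subgroup.normalizer ((S : Subgroup G) : Set G) : Subgroup G) : Set G) := hg
  rw [Subgroup.coe_mul_of_right_le_normalizer_left _ _ h.N_le_W] at hg'
  obtain ⟨w, hw, n, hn, rfl⟩ := hg'
  exact ⟨w, hw, n, hn, rfl⟩

theorem M_ne_top : M S ≠ ⊤ := by
  intro e
  by_cases hW : W S = ⊥
  · rw [M, hW, bot_sup_eq] at e
    refine h.normalizer_ne_top ?_ ?_ e
    · intro e1
      have := h.card
      rw [e1, Subgroup.card_bot] at this
      omega
    · intro e1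
      exact h.nonab ⟨⟨fun x y => h.comm (e1 ▸ Subgroup.mem_top x) (e1 ▸ Subgroup.mem_top y)⟩⟩
  · refine h.normalizer_ne_top hW (fun e1 => h.W_odd ?_) (top_le_iff.1 (e ▸ h.M_le_NW))
    rw [e1, Subgroup.card_top]
    exact h.two_dvd_card

theorem C_le_M {a : G} (ha : a ∈ (S : Subgroup G)) (h1 : a ≠ 1) : C a ≤ M S := fun g hg => by
  obtain ⟨w, hw, s, hs, rfl⟩ := h.C_decomp ha h1 hg
  exact mul_mem (Subgroup.mem_sup_left ((h.W_inf_C ha h1).ge hw).1) (h.S_le_M hs)

theorem conj_W {g w : G} (hg : g ∈ M S) (hw : w ∈ W S) : g * w * g⁻¹ ∈ W S :=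
  (Subgroup.mem_normalizer_iff.1 (h.M_le_NW hg) w).1 hw

theorem W_N_fix {w : G} (hw : w ∈ W S) (hn : w ∈ Subgroup.normalizer ((S : Subgroup G) : Set G)) {s : G}
    (hs : s ∈ (S : Subgroup G)) : w * s = s * w := h.fix_of_odd h.W_odd h.S_le_NW hw hn hs

/-- 2-subgroups of M are conjugate into S by elements of W. -/
theorem conj_two {U : Subgroup G} (hUM : U ≤ M S) (hU : IsPGroup 2 U) :
    ∃ w ∈ W S, ∀ x ∈ U, w * x * w⁻¹ ∈ (S : Subgroup G) := by
  haveI : Fact (Nat.Prime 2) := ⟨Nat.prime_two⟩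
  obtain ⟨Q, hQ⟩ := (hU.comap_of_injective (M S).subtype (M S).subtype_injective).exists_le_sylow
  obtain ⟨g, hg⟩ := MulAction.exists_smul_eq (M S) Q (S.subtype h.S_le_M)
  obtain ⟨w, hw, n, hn, hgwn⟩ := h.mem_M g.2
  have hn' : n⁻¹ * w * n ∈ W S := by
    simpa using (Subgroup.mem_normalizer_iff.1 (h.N_le_W (inv_mem hn)) w).1 hw
  refine ⟨n⁻¹ * w * n, hn', fun x hx => ?_⟩
  have hx' : MulAut.conj g (⟨x, hUM hx⟩ : M S) ∈ ((S.subtype h.S_le_M : Sylow 2 (M S)) : Subgroup (M S)) := by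
    rw [← hg]
    exact Subgroup.smul_mem_pointwise_smul _ _ _ (hQ hx)
  rw [Sylow.coe_subtype, Subgroup.mem_subgroupOf] at hx'
  simp only [MulAut.conj_apply, Subgroup.coe_mul, Subgroup.coe_inv, hgwn] at hx'
  have := (Subgroup.mem_normalizer_iff.1 (inv_mem hn) _).1 hx'
  simpa [mul_assoc] using this

theorem invol_M {t : G} (ht : t ∈ M S) (ho : orderOf t = 2) :
    ∃ w ∈ W S, w * t * w⁻¹ ∈ (S : Subgroup G) ∧ w * t * w⁻¹ ≠ 1 := by
  haveI : Fact (Nat.Prime 2) := ⟨Nat.prime_two⟩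
  obtain ⟨w, hw, hs⟩ := h.conj_two (U := Subgroup.zpowers t) (Subgroup.zpowers_le.2 ht)
    (IsPGroup.of_card (n := 1) (by rw [Nat.card_zpowers, ho, pow_one]))
  refine ⟨w, hw, hs t (Subgroup.mem_zpowers t), fun e => ?_⟩
  rw [conj_eq_one_iff] at e
  rw [e, orderOf_one] at ho
  omega

theorem C_le_M' {t : G} (ht : t ∈ M S) (ho : orderOf t = 2) : C t ≤ M S := fun g hg => by
  obtain ⟨w, hw, hs, h1⟩ := h.invol_M ht ho
  have hwM : w ∈ M S := Subgroup.mem_sup_left hw
  have hg' : w * g * w⁻¹ ∈ C (w * t * w⁻¹) := by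
    rw [mem_C] at hg ⊢
    calc w * g * w⁻¹ * (w * t * w⁻¹) = w * (g * t) * w⁻¹ := by group
      _ = _ := by rw [hg]; group
  simpa [mul_assoc] using mul_mem (mul_mem (inv_mem hwM) (h.C_le_M hs h1 hg')) hwM

theorem conj_invol_M {s t : G} (hs : s ∈ M S) (hso : orderOf s = 2) (ht : t ∈ M S) (hto : orderOf t = 2) :
    ∃ g ∈ M S, g * s * g⁻¹ = t := by
  obtain ⟨v, hv, hsS, hs1⟩ := h.invol_M hs hso
  obtain ⟨w, hw, htS, ht1⟩ := h.invol_M ht hto
  obtain ⟨n, hn, hne⟩ := h.transitive hsS hs1 htS ht1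
  refine ⟨w⁻¹ * n * v, mul_mem (mul_mem (inv_mem (Subgroup.mem_sup_left hw)) (Subgroup.mem_sup_right hn))
    (Subgroup.mem_sup_left hv), ?_⟩
  calc w⁻¹ * n * v * s * (w⁻¹ * n * v)⁻¹ = w⁻¹ * (n * (v * s * v⁻¹) * n⁻¹) * w := by group
    _ = t := by rw [hne]; group

theorem M_se : Cfsg.IsStronglyEmbedded (M S) := by
  obtain ⟨a, ha, ha1, -⟩ := h.exists_three
  refine (S0223.result (M S) h.M_ne_top ?_).2 ⟨fun t ht ho => h.C_le_M' ht ho, ?_⟩
  · exact Invol.even_of_invol_mem (h.order2 ha ha1) (h.S_le_M ha)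
  · intro t ht s hs hto hso _
    exact h.conj_invol_M ht hto hs hso

/-- A proper subgroup with two commuting involutions of M lies in M. -/
theorem uniq4 {H : Subgroup G} (hH : H ≠ ⊤) {x y : G} (hxH : x ∈ H) (hyH : y ∈ H) (hxM : x ∈ M S)
    (hyM : y ∈ M S) (hxo : orderOf x = 2) (hyo : orderOf y = 2) (hne : x ≠ y) (hxy : x * y = y * x) :
    H ≤ M S := by
  haveI : Fact (Nat.Prime 2) := ⟨Nat.prime_two⟩
  haveI := h.solv H hH
  set V := Subgroup.closure ({x, y} : Set G) with hV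
  have hVc : IsMulCommutative V := Subgroup.isMulCommutative_closure fun u hu v hv => by
    rcases hu with rfl | rfl <;> rcases hv with rfl | rfl <;> first | rfl | exact hxy | exact hxy.symm
  have hxV : x ∈ V := Subgroup.subset_closure (Or.inl rfl)
  have hyV : y ∈ V := Subgroup.subset_closure (Or.inr rfl)
  have hVH : V ≤ H := (Subgroup.closure_le _).2 (by rintro u (rfl | rfl); exacts [hxH, hyH])
  have hVM : V ≤ M S := (Subgroup.closure_le _).2 (by rintro u (rfl | rfl); exacts [hxM, hyM])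
  have hVsq : ∀ u ∈ V, u * u = 1 := by
    intro u hu
    induction hu using Subgroup.closure_induction with
    | mem u hu =>
      rcases hu with rfl | rfl
      · rw [← pow_two, ← hxo, pow_orderOf_eq_one]
      · rw [← pow_two, ← hyo, pow_orderOf_eq_one]
    | one => simp
    | mul u v hu hv e1 e2 =>
      haveI := hVc
      have huv : u * v = v * u := congrArg Subtype.val (mul_comm' (⟨u, hu⟩ : V) ⟨v, hv⟩)
      calc u * v * (u * v) = u * (v * u) * v := by group
        _ = u * u * (v * v) := by rw [← huv]; group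
        _ = 1 := by rw [e1, e2, one_mul]
    | inv u _ e1 => rw [← mul_inv_rev, e1, inv_one]
  have hC : ∀ u ∈ V, u ≠ 1 → C u ≤ M S := fun u hu h1 =>
    h.C_le_M' (hVM hu) (orderOf_eq_prime (by rw [pow_two]; exact hVsq u hu) h1)
  -- the core
  have hVnc := not_isCyclic_of_klein hxV hyV hxo hyo hne
  haveI := hVc
  have hcore : core' 2 H ≤ M S := by
    have hcop : (Nat.card V).Coprime (Nat.card (core' 2 H)) := by
      obtain ⟨k, hk⟩ := IsPGroup.iff_card.1 (pGroup_of_sq hVsq)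
      rw [hk]
      exact Nat.Coprime.pow_left k ((Nat.Prime.coprime_iff_not_dvd Nat.prime_two).2 (not_dvd_core' H))
    rw [← CoprimeAct.generated_by_centralizers hVnc (hVH.trans (le_normalizer_core' H)) hcop]
    exact iSup₂_le fun u hu => inf_le_right.trans (hC u hu.1 hu.2)
  -- a Sylow subgroup over V
  obtain ⟨T, hT⟩ := ((pGroup_of_sq hVsq).comap_of_injective H.subtype H.subtype_injective).exists_le_sylow
  set T' := (T : Subgroup H).map H.subtype with hT'
  have hVT : V ≤ T' := fun u hu => ⟨⟨u, hVH hu⟩, hT hu, rfl⟩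
  obtain ⟨Q, hQ⟩ := (T.isPGroup'.map H.subtype : IsPGroup 2 T').exists_le_sylow
  have hQc : ∀ u ∈ (Q : Subgroup G), ∀ v ∈ (Q : Subgroup G), u * v = v * u := fun u hu v hv =>
    congrArg Subtype.val ((Sylow.equiv Q S).injective (by
      rw [map_mul, map_mul]
      exact Subtype.ext (h.comm ((Sylow.equiv Q S) ⟨u, hu⟩).2 ((Sylow.equiv Q S) ⟨v, hv⟩).2)) :
      (⟨u, hu⟩ : (Q : Subgroup G)) * ⟨v, hv⟩ = ⟨v, hv⟩ * ⟨u, hu⟩)
  have hTC : T' ≤ C x := fun t ht => mem_C.2 (hQc t (hQ ht) x (hQ (hVT hxV)))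
  have hx1 : x ≠ 1 := fun e => by rw [e, orderOf_one] at hxo; omega
  have hTM : T' ≤ M S := hTC.trans (hC x hxV hx1)
  -- its normaliser
  have hNT : H ⊓ Subgroup.normalizer (T' : Set G) ≤ M S := by
    rintro g ⟨-, hg⟩
    have hgx : g * x * g⁻¹ ∈ M S := hTM ((Subgroup.mem_normalizer_iff.1 hg x).1 (hVT hxV))
    exact Invol.se_mem_of_conj h.M_se hxo hxM hgx
  -- 2-length one
  have hcomm : IsMulCommutative (T : Subgroup H) := ⟨⟨fun u v => Subtype.ext (Subtype.ext
    (hQc _ (hQ ⟨u.1, u.2, rfl⟩) _ (hQ ⟨v.1, v.2, rfl⟩)))⟩⟩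
  have hn := S0018.result 2 T hcomm
  have hfr : ∀ g : H, ∃ c ∈ Cfsg.pPrimeCore 2 H, c⁻¹ * g ∈ Subgroup.normalizer ((T : Subgroup H) : Set H) := by
    intro g
    haveI : (Cfsg.pPrimeCore 2 H).Normal := FittingCores.pPrimeCore_normal 2
    haveI := hn
    let T0 : Sylow 2 ↥((T : Subgroup H) ⊔ Cfsg.pPrimeCore 2 H) := T.subtype le_sup_left
    have htop := Sylow.normalizer_sup_eq_top' T le_sup_left (N := (T : Subgroup H) ⊔ Cfsg.pPrimeCore 2 H)
    have hgm : g ∈ (((Cfsg.pPrimeCore 2 H) ⊔ Subgroup.normalizer ((T : Subgroup H) : Set H) : Subgroup H) : Set H) := by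
      have : (⊤ : Subgroup H) ≤ Cfsg.pPrimeCore 2 H ⊔ Subgroup.normalizer ((T : Subgroup H) : Set H) := by
        rw [← htop]
        exact sup_le le_sup_right (sup_le (Subgroup.le_normalizer.trans le_sup_right) le_sup_left)
      exact this (Subgroup.mem_top g)
    rw [Subgroup.normal_mul] at hgm
    obtain ⟨c, hc, m, hm, rfl⟩ := hgm
    exact ⟨c, hc, by simpa using hm⟩
  intro g hg
  obtain ⟨c, hc, hm⟩ := hfr ⟨g, hg⟩
  have h2 : (c : G)⁻¹ * g ∈ M S := hNT ⟨H.mul_mem (H.inv_mem c.2) hg, Subgroup.le_normalizer_map H.subtype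
    ⟨c⁻¹ * ⟨g, hg⟩, hm, rfl⟩⟩
  simpa using mul_mem (hcore ⟨c, hc, rfl⟩) h2

end Hyp

end Cfsg.Agent.EightSylow
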